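import Cfsg.Agent.H145.BR.Count
import Cfsg.Agent.Characters.GaloisIrr
import Cfsg.Agent.CharactersDeep.RChar
import Cfsg.Agent.Characters.EquivOfChar
import Cfsg.Agent.H116.CY.Wit
import Cfsg.Agent.H687.Induce
import Cfsg.Agent.H589.BD.Ex
import Cfsg.Agent.Characters.Clifford
import Cfsg.Agent.Characters.Brauer
import Cfsg.Agent.Characters.Linear
import Cfsg.Agent.Blocks.Basic
import Mathlib
import Cfsg.Agent.ONan.SL2Hom
import Cfsg.Agent.H199.PslAut
import Cfsg.Agent.Characters.Core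
import Cfsg.Agent.FastGrp
import Cfsg.Agent.Prune
set_option linter.all false

section
prune_inst 0x7fffb9f9fba8e9ffdfff7fbff6ddcff813800fffe6dff94bbfe0299fab9f23120947ab8d0de010fe1ed6601410b87843ff7eeeffe06fdc7ffffdfff41ffbee4fe5f7350811d48c340f300fff03f0778e6f3fffffffffffffffffffffffffffbeffbffbfeffff

-- part: H125/PC/Crit
section
set_option linter.all false
open scoped Cfsg.Agent.FastGrp

/-!
# S4829: the criterion at the level of `G` (helper125)

`Cyc p χ` : `χ` has values in the field of `p`-th roots of unity, in the form of S4829.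

`b0_sum` : for a character `Ψ` with `Ψ(y) ≡ Ψ(1)` on the `p`-regular elements `y` of `C_G(P)`, the degree of the
`B0`-part of `Ψ` is congruent to `Ψ(1)` modulo `p`.

`crit` : `Ψ` fixed by the Galois group over `ℚ(ζ_p)`, `Ψ_N` multiplicity free, with all its constituents nonlinear and
`Cyc p`: a constituent of `Ψ` in the principal block, of degree prime to `p`, nonlinear, `Cyc p`.
-/

set_option autoImplicit false
set_option linter.unusedSectionVars false

open Subgroup
open scoped ComplexConjugate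

namespace Cfsg.Agent.H125.PC

open Cfsg
open Cfsg.Agent.Blocks.Blau Cfsg.Agent.Blocks.Local Cfsg.Agent.Characters Cfsg.Agent.H145.BR

universe u v

variable {p : ℕ} [hp : Fact p.Prime] {M : Ideal AlgInt} {G : Type u} [Group G] [Finite G]

/-- `p`-cyclotomic valued, as in S4829 -/
def Cyc (p : ℕ) {G : Type u} [Group G] (χ : G → ℂ) : Prop :=
  ∀ k : ℕ, Nat.Coprime k (Nat.card G) → k ≡ 1 [MOD p] → ∀ g : G, χ (g ^ k) = χ g

/-- the `B0`-part and the sum over the `p`-regular elements -/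
theorem sum_sub_reg (hM : IsPModular p M) [Fintype G] [Fintype (IrrCharacter G)]
    [DecidablePred (· ∈ principalBlock M G)] (Φ : G → ℂ)
    (k : IrrCharacter G → ℤ) (hΦ : ∀ g, Φ g = ∑ χ : IrrCharacter G, (k χ : ℂ) * (χ : G → ℂ) g) :
    MemLocalIdeal M ((((∑ χ : IrrCharacter G, if χ ∈ principalBlock M G then k χ * (charDegree (χ : G → ℂ) : ℤ) else 0) *
      (Nat.card {x : G // ¬ p ∣ orderOf x} : ℤ) : ℤ) : ℂ) - ∑ g : G, regPart p Φ g) := by
  classical
  have hMp : M.IsPrime := isPrime_of_isPModular hM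
  have h1 : ∑ g : G, regPart p Φ g = ∑ χ : IrrCharacter G, (k χ : ℂ) * ∑ g : G, regPart p (χ : G → ℂ) g := by
    have h2 : ∀ g : G, regPart p Φ g = ∑ χ : IrrCharacter G, (k χ : ℂ) * regPart p (χ : G → ℂ) g := by
      intro g
      by_cases hg : p ∣ orderOf g
      · rw [regPart_of_dvd hg, Finset.sum_eq_zero]
        intro i _
        rw [regPart_of_dvd hg, mul_zero]
      · rw [regPart_of_not_dvd hg, hΦ]
        refine Finset.sum_congr rfl fun i _ => ?_
        rw [regPart_of_not_dvd hg]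
    rw [Finset.sum_congr rfl fun g _ => h2 g, Finset.sum_comm]
    exact Finset.sum_congr rfl fun χ _ => by rw [Finset.mul_sum]
  have key : ∀ χ : IrrCharacter G, MemLocalIdeal M
      ((((if χ ∈ principalBlock M G then k χ * (charDegree (χ : G → ℂ) : ℤ) else 0) *
        (Nat.card {x : G // ¬ p ∣ orderOf x} : ℤ) : ℤ) : ℂ) - (k χ : ℂ) * ∑ g : G, regPart p (χ : G → ℂ) g) := by
    intro χ
    by_cases hχ : χ ∈ principalBlock M G
    · rw [if_pos hχ]
      have h2 := pair_div_sub_pair_div hM (H893.Sd.one G).2 χ.2 (Core.isIrr_isCharacter (H893.Sd.one G).2) hχ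
      have h3 : pair p ((H893.Sd.one G : IrrCharacter G) : G → ℂ) ((H893.Sd.one G : IrrCharacter G) : G → ℂ) =
        (Nat.card {x : G // ¬ p ∣ orderOf x} : ℂ) := H893.Sd.pair_one_one p
      have h4 : ((H893.Sd.one G : IrrCharacter G) : G → ℂ) 1 = 1 := rfl
      have h5 : pair p (χ : G → ℂ) ((H893.Sd.one G : IrrCharacter G) : G → ℂ) = ∑ g : G, regPart p (χ : G → ℂ) g :=
        H893.Sd.pair_one p _
      rw [h3, h4, h5, div_one] at h2
      have h6 : (χ : G → ℂ) 1 ≠ 0 := apply_one_ne_zero χ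
      have h7 := memLocalIdeal_mul_left (memLocalRing_intCast (M := M) (k χ * (charDegree (χ : G → ℂ) : ℤ))) h2
      have h8 : ((k χ * (charDegree (χ : G → ℂ) : ℤ) : ℤ) : ℂ) * ((Nat.card {x : G // ¬ p ∣ orderOf x} : ℂ) -
          (∑ g : G, regPart p (χ : G → ℂ) g) / (χ : G → ℂ) 1) =
          (((k χ * (charDegree (χ : G → ℂ) : ℤ)) * (Nat.card {x : G // ¬ p ∣ orderOf x} : ℤ) : ℤ) : ℂ) -
            (k χ : ℂ) * ∑ g : G, regPart p (χ : G → ℂ) g := by
        rw [charDegree_cast'] at h6 ⊢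
        push_cast
        field_simp
      rw [h8] at h7
      exact h7
    · rw [if_neg hχ, zero_mul, Int.cast_zero, zero_sub]
      have h2 : ∑ g : G, regPart p (χ : G → ℂ) g = 0 := by
        by_contra h3
        exact hχ ((H893.Sd.mem_iff hM χ).2 h3)
      rw [h2, mul_zero, neg_zero]
      exact memLocalIdeal_zero
  have h2 := memLocalIdeal_sum (M := M) (s := Finset.univ) fun χ _ => key χ
  rw [Finset.sum_sub_distrib, ← h1, ← Int.cast_sum, ← Finset.sum_mul] at h2
  exact h2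

/-- a class function with algebraic integer values, summed over the `p`-regular elements: only `C_G(P)` matters -/
theorem reg_sub_cent (hM : IsPModular p M) [Fintype G] (P : Sylow p G) {Φ : G → ℂ} (hΦ : IsCharacter G Φ) :
    MemLocalIdeal M ((∑ g : G, regPart p Φ g) -
      ∑ g : G, @ite ℂ (g ∈ centralizer ((P : Subgroup G) : Set G)) (Classical.dec _) (regPart p Φ g) 0) := by
  classical
  have hMp : M.IsPrime := isPrime_of_isPModular hM
  let _ : MulAction (P : Subgroup G) G := MulAction.compHom G ((MulAut.conj : G →* MulAut G).comp (P : Subgroup G).subtype)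
  have hsm : ∀ (u : (P : Subgroup G)) (x : G), u • x = (u : G) * x * (u : G)⁻¹ := fun _ _ => rfl
  have hcl := Core.isCharacter_isClassFunction hΦ
  have h1 := H687.sum_fixed (Γ := (P : Subgroup G)) (X := G) P.2 (regPart p Φ) (by
    intro u x
    rw [hsm]
    have ho : orderOf ((u : G) * x * (u : G)⁻¹) = orderOf x := orderOf_conj'' _ _
    by_cases hx : p ∣ orderOf x
    · rw [regPart_of_dvd hx, regPart_of_dvd (ho.symm ▸ hx)]
    · rw [regPart_of_not_dvd hx, regPart_of_not_dvd (ho.symm ▸ hx)]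
      exact hcl x u) (by
    intro x
    by_cases hx : p ∣ orderOf x
    · rw [regPart_of_dvd hx]
      exact isIntegral_zero
    · rw [regPart_of_not_dvd hx]
      exact Cfsg.Agent.CharactersDeep.RChar.isIntegral_character hΦ x)
  obtain ⟨z, hz, h2⟩ := h1
  have h3 : ∀ x : G, (x ∈ MulAction.fixedPoints (P : Subgroup G) G) ↔ x ∈ centralizer ((P : Subgroup G) : Set G) := by
    intro x
    rw [MulAction.mem_fixedPoints, mem_centralizer_iff]
    constructor
    · intro h g hg
      have := h ⟨g, hg⟩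
      rw [hsm] at this
      exact mul_inv_eq_iff_eq_mul.1 this
    · intro h u
      rw [hsm]
      exact mul_inv_eq_iff_eq_mul.2 (h u u.2)
  rw [h2]
  have h4 : (∑ x : G, if x ∈ MulAction.fixedPoints (P : Subgroup G) G then regPart p Φ x else 0) =
      ∑ g : G, @ite ℂ (g ∈ centralizer ((P : Subgroup G) : Set G)) (Classical.dec _) (regPart p Φ g) 0 := by
    refine Finset.sum_congr rfl fun x _ => ?_
    by_cases hx : x ∈ centralizer ((P : Subgroup G) : Set G)
    · rw [if_pos ((h3 x).2 hx), if_pos hx]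
    · rw [if_neg (fun h => hx ((h3 x).1 h)), if_neg hx]
  rw [h4, add_sub_cancel_left]
  exact Blocks.LocalRing.memLocalIdeal_mul_right hM
    ((Blocks.LocalRing.memLocalIdeal_natCast_iff hM p).2 dvd_rfl)
    (Blocks.LocalRing.memLocalRing_of_isIntegral hM hz)

/-- the number of the `p`-regular elements of `C_G(P)` -/
theorem card_reg_cent (hM : IsPModular p M) [Fintype G] (P : Sylow p G) :
    MemLocalIdeal M ((Nat.card {x : G // ¬ p ∣ orderOf x} : ℂ) -
      ∑ g : G, @ite ℂ (g ∈ centralizer ((P : Subgroup G) : Set G)) (Classical.dec _)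
        (regPart p (fun _ : G => (1 : ℂ)) g) 0) := by
  have h1 := reg_sub_cent hM P (Φ := fun _ : G => (1 : ℂ)) (Core.isIrr_isCharacter (H893.Sd.one G).2)
  have h2 : ∑ g : G, regPart p (fun _ : G => (1 : ℂ)) g = (Nat.card {x : G // ¬ p ∣ orderOf x} : ℂ) := by
    rw [← H893.Sd.pair_one, H893.Sd.pair_one_one]
  rw [h2] at h1
  exact h1

/-- **the degree of the `B0`-part** of a character which is constant modulo `p` on the `p`-regular elements of
`C_G(P)` -/
theorem b0_sum (hM : IsPModular p M) [Fintype G] [Fintype (IrrCharacter G)]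
    [DecidablePred (· ∈ principalBlock M G)] (P : Sylow p G) {Ψ : G → ℂ} (hΨ : IsCharacter G Ψ)
    (k : IrrCharacter G → ℤ) (hk : ∀ g, Ψ g = ∑ χ : IrrCharacter G, (k χ : ℂ) * (χ : G → ℂ) g)
    (hv : ∀ y ∈ centralizer ((P : Subgroup G) : Set G), ¬ p ∣ orderOf y → MemLocalIdeal M (Ψ 1 - Ψ y)) :
    ∑ χ : IrrCharacter G, k χ * (charDegree (χ : G → ℂ) : ℤ) ≡
      (∑ χ : IrrCharacter G, if χ ∈ principalBlock M G then k χ * (charDegree (χ : G → ℂ) : ℤ) else 0) [ZMOD p] := by
  classical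
  have hMp : M.IsPrime := isPrime_of_isPModular hM
  set A : ℤ := ∑ χ : IrrCharacter G, if χ ∈ principalBlock M G then k χ * (charDegree (χ : G → ℂ) : ℤ) else 0 with hA
  set B : ℤ := ∑ χ : IrrCharacter G, k χ * (charDegree (χ : G → ℂ) : ℤ) with hB
  have hB1 : Ψ 1 = (B : ℂ) := by
    rw [hk, hB, Int.cast_sum]
    refine Finset.sum_congr rfl fun χ _ => ?_
    rw [Int.cast_mul, charDegree_cast']
    rfl
  have h1 := sum_sub_reg hM Ψ k hk
  rw [← hA] at h1
  have h2 := reg_sub_cent hM P hΨ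
  have h3 := card_reg_cent hM P
  have h4 : MemLocalIdeal M ((∑ g : G, @ite ℂ (g ∈ centralizer ((P : Subgroup G) : Set G)) (Classical.dec _)
        (Ψ 1 * regPart p (fun _ : G => (1 : ℂ)) g) 0) -
      ∑ g : G, @ite ℂ (g ∈ centralizer ((P : Subgroup G) : Set G)) (Classical.dec _) (regPart p Ψ g) 0) := by
    rw [← Finset.sum_sub_distrib]
    refine memLocalIdeal_sum (s := Finset.univ) fun g _ => ?_
    by_cases hg : g ∈ centralizer ((P : Subgroup G) : Set G)
    · rw [if_pos hg, if_pos hg]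
      by_cases hg' : p ∣ orderOf g
      · rw [regPart_of_dvd hg', regPart_of_dvd hg', mul_zero, sub_zero]
        exact memLocalIdeal_zero
      · rw [regPart_of_not_dvd hg', regPart_of_not_dvd hg', mul_one]
        exact hv g hg hg'
    · rw [if_neg hg, if_neg hg, sub_zero]
      exact memLocalIdeal_zero
  have h5 : (∑ g : G, @ite ℂ (g ∈ centralizer ((P : Subgroup G) : Set G)) (Classical.dec _)
        (Ψ 1 * regPart p (fun _ : G => (1 : ℂ)) g) 0) =
      Ψ 1 * ∑ g : G, @ite ℂ (g ∈ centralizer ((P : Subgroup G) : Set G)) (Classical.dec _)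
        (regPart p (fun _ : G => (1 : ℂ)) g) 0 := by
    rw [Finset.mul_sum]
    refine Finset.sum_congr rfl fun g _ => ?_
    split_ifs <;> simp
  rw [h5] at h4
  have h6 := memLocalIdeal_mul_left (memLocalRing_intCast (M := M) B) h3
  rw [hB1] at h4
  have h7 := memLocalIdeal_sub (memLocalIdeal_add h6 h4) (memLocalIdeal_add h1 h2)
  have h8 : MemLocalIdeal M ((((B - A) * (Nat.card {x : G // ¬ p ∣ orderOf x} : ℤ) : ℤ)) : ℂ) := by
    refine cast (congrArg (MemLocalIdeal M) ?_) h7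
    push_cast
    ring
  rw [memLocalIdeal_intCast_iff hM] at h8
  have h9 : ¬ (p : ℤ) ∣ (Nat.card {x : G // ¬ p ∣ orderOf x} : ℤ) := by
    rw [Int.natCast_dvd_natCast]
    exact Cfsg.Agent.Blocks.RegularCount.not_dvd_card_regular
  have h10 := ((Nat.prime_iff_prime_int.1 hp.out).dvd_or_dvd h8).resolve_right h9
  exact (Int.modEq_iff_dvd.2 (by rw [← neg_sub]; exact (dvd_neg).2 h10))

/-- the inner product of the powers -/
theorem inner_pow {H : Type u} [Group H] [Finite H] [Fintype H] {k : ℕ} (hk : k.Coprime (Nat.card H)) (f g : H → ℂ) :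
    classInner (fun n : H => f (n ^ k)) (fun n : H => g (n ^ k)) = classInner f g := by
  rw [Core.classInner_def, Core.classInner_def]
  congr 1
  exact Equiv.sum_comp (powCoprime hk.symm) (fun n : H => f n * conj (g n))

/-- **The criterion for S4829.** `Ψ` a character of `G`, fixed by the Galois group over `ℚ(ζ_p)`, of degree prime to
`p`, constant modulo `p` on the `p`-regular elements of `C_G(P)`, multiplicity free on the normal subgroup `N`, all
constituents of `Ψ_N` nonlinear and `p`-cyclotomic. -/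
theorem crit (hM : IsPModular p M) (P : Sylow p G) (N : Subgroup G) [Fintype N] {Ψ : G → ℂ}
    (hΨ : IsCharacter G Ψ) (hcyc : Cyc p Ψ) (hdeg : ∃ d : ℕ, Ψ 1 = d ∧ ¬ p ∣ d)
    (hv : ∀ y ∈ centralizer ((P : Subgroup G) : Set G), ¬ p ∣ orderOf y → MemLocalIdeal M (Ψ 1 - Ψ y))
    (hN : ∀ θ : IrrCharacter N, classInner (fun n : N => Ψ n) (θ : N → ℂ) ≠ 0 →
      classInner (fun n : N => Ψ n) (θ : N → ℂ) = 1 ∧ charDegree (θ : N → ℂ) ≠ 1 ∧ Cyc p (θ : N → ℂ)) :
    ∃ χ : IrrCharacter G, χ ∈ principalBlock M G ∧ charDegree (χ : G → ℂ) ≠ 1 ∧ ¬ p ∣ charDegree (χ : G → ℂ) ∧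
      Cyc p (χ : G → ℂ) := by
  classical
  have := Fintype.ofFinite G
  have : Finite (IrrCharacter G) := Core.finite_irr
  have := Fintype.ofFinite (IrrCharacter G)
  obtain ⟨m, hm⟩ := Core.isCharacter_iff.1 hΨ
  have hm' : ∀ g, Ψ g = ∑ χ : IrrCharacter G, (((m χ : ℤ)) : ℂ) * (χ : G → ℂ) g := by
    intro g
    conv_lhs => rw [hm]
    rw [Finset.sum_apply]
    refine Finset.sum_congr rfl fun χ _ => ?_
    rw [Pi.smul_apply, nsmul_eq_mul, Int.cast_natCast]
  obtain ⟨d, hd, hpd⟩ := hdeg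
  have hsum := b0_sum hM P hΨ (fun χ => (m χ : ℤ)) hm' hv
  have hd' : (∑ χ : IrrCharacter G, (m χ : ℤ) * (charDegree (χ : G → ℂ) : ℤ)) = (d : ℤ) := by
    have h1 := hm' 1
    rw [hd] at h1
    have h2 : ((∑ χ : IrrCharacter G, (m χ : ℤ) * (charDegree (χ : G → ℂ) : ℤ) : ℤ) : ℂ) = ((d : ℤ) : ℂ) := by
      rw [Int.cast_natCast, h1, Int.cast_sum]
      refine Finset.sum_congr rfl fun χ _ => ?_
      rw [Int.cast_mul, charDegree_cast']
      rfl
    exact_mod_cast h2
  -- the constituent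
  obtain ⟨χ, hχB, hχm, hχp⟩ : ∃ χ : IrrCharacter G, χ ∈ principalBlock M G ∧ m χ ≠ 0 ∧
      ¬ p ∣ charDegree (χ : G → ℂ) := by
    by_contra hcon
    push Not at hcon
    have h1 : (p : ℤ) ∣ ∑ χ : IrrCharacter G, if χ ∈ principalBlock M G then
        (m χ : ℤ) * (charDegree (χ : G → ℂ) : ℤ) else 0 := by
      refine Finset.dvd_sum fun χ _ => ?_
      by_cases hB : χ ∈ principalBlock M G
      · rw [if_pos hB]
        by_cases hm0 : m χ = 0
        · rw [hm0]
          simp
        · exact Dvd.dvd.mul_left (Int.natCast_dvd_natCast.2 (hcon χ hB hm0)) _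
      · rw [if_neg hB]
        exact dvd_zero _
    rw [hd'] at hsum
    exact hpd (Int.natCast_dvd_natCast.1 ((Int.ModEq.dvd_iff hsum).2 h1))
  -- multiplicities
  have hmul : ∀ χ : IrrCharacter G, classInner Ψ (χ : G → ℂ) = (m χ : ℂ) := by
    intro χ
    rw [hm, Core.classInner_sum_left, Finset.sum_eq_single χ]
    · rw [← Nat.cast_smul_eq_nsmul ℂ, Core.classInner_smul_left, Core.classInner_irr_self χ.2, mul_one]
    · intro ψ _ hψ
      rw [← Nat.cast_smul_eq_nsmul ℂ, Core.classInner_smul_left,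
        Core.classInner_irr_ne ψ.2 χ.2 (fun h => hψ (Subtype.ext h)), mul_zero]
    · intro h
      exact absurd (Finset.mem_univ _) h
  have hres : ∀ χ : IrrCharacter G, IsCharacter N (fun n : N => (χ : G → ℂ) n) := fun χ =>
    Core.isCharacter_comp N.subtype (Core.isIrr_isCharacter χ.2)
  have hnat : ∀ (χ : IrrCharacter G) (θ : IrrCharacter N), ∃ n : ℕ,
      classInner (fun n : N => (χ : G → ℂ) n) (θ : N → ℂ) = n := fun χ θ =>
    Core.classInner_isNat (hres χ) (Core.isIrr_isCharacter θ.2)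
  choose r hr using hnat
  have hΨN : ∀ θ : IrrCharacter N, classInner (fun n : N => Ψ n) (θ : N → ℂ) =
      ((∑ χ : IrrCharacter G, m χ * r χ θ : ℕ) : ℂ) := by
    intro θ
    have h1 : (fun n : N => Ψ n) = ∑ χ : IrrCharacter G, (m χ : ℂ) • (fun n : N => (χ : G → ℂ) n) := by
      funext n
      rw [Finset.sum_apply, hm' n]
      rfl
    rw [h1, Core.classInner_sum_left, Nat.cast_sum]
    refine Finset.sum_congr rfl fun χ _ => ?_
    rw [Core.classInner_smul_left, hr, Nat.cast_mul]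
  -- a constituent of the restriction
  obtain ⟨θ, hθ⟩ : ∃ θ : IrrCharacter N, r χ θ ≠ 0 := by
    by_contra hcon
    push Not at hcon
    have : Finite (IrrCharacter N) := Core.finite_irr
    have := Fintype.ofFinite (IrrCharacter N)
    have h1 := Core.classFunction_eq_sum (Core.isCharacter_isClassFunction (hres χ))
    have h2 := congrFun h1 1
    rw [Finset.sum_apply, Finset.sum_eq_zero] at h2
    · exact apply_one_ne_zero χ h2
    · intro θ _
      rw [Pi.smul_apply, hr, hcon, Nat.cast_zero, zero_smul]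
  have hle : m χ * r χ θ ≤ ∑ ψ : IrrCharacter G, m ψ * r ψ θ :=
    Finset.single_le_sum (f := fun ψ : IrrCharacter G => m ψ * r ψ θ) (fun _ _ => Nat.zero_le _) (Finset.mem_univ χ)
  have hpos : 0 < m χ * r χ θ := Nat.mul_pos (Nat.pos_of_ne_zero hχm) (Nat.pos_of_ne_zero hθ)
  have hne : classInner (fun n : N => Ψ n) (θ : N → ℂ) ≠ 0 := by
    rw [hΨN]
    exact_mod_cast (lt_of_lt_of_le hpos hle).ne'
  obtain ⟨hone, hlin, hθc⟩ := hN θ hne
  have hone' : ∑ ψ : IrrCharacter G, m ψ * r ψ θ = 1 := by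
    rw [hΨN] at hone
    exact_mod_cast hone
  refine ⟨χ, hχB, ?_, hχp, ?_⟩
  · -- nonlinear
    intro h1
    apply hlin
    have h2 : r χ θ * charDegree (θ : N → ℂ) ≤ charDegree (χ : G → ℂ) := by
      have : Finite (IrrCharacter N) := Core.finite_irr
      have := Fintype.ofFinite (IrrCharacter N)
      have h3 := congrFun (Core.classFunction_eq_sum (Core.isCharacter_isClassFunction (hres χ))) 1
      rw [Finset.sum_apply] at h3
      have h4 : ((charDegree (χ : G → ℂ) : ℕ) : ℂ) =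
          ((∑ η : IrrCharacter N, r χ η * charDegree (η : N → ℂ) : ℕ) : ℂ) := by
        rw [← charDegree_cast', Nat.cast_sum]
        refine (h3.trans (Finset.sum_congr rfl fun η _ => ?_))
        rw [Pi.smul_apply, hr, smul_eq_mul, charDegree_cast', Nat.cast_mul]
      have h5 : charDegree (χ : G → ℂ) = ∑ η : IrrCharacter N, r χ η * charDegree (η : N → ℂ) := by
        exact_mod_cast h4
      rw [h5]
      exact Finset.single_le_sum (f := fun η : IrrCharacter N => r χ η * charDegree (η : N → ℂ))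
        (fun _ _ => Nat.zero_le _) (Finset.mem_univ θ)
    rw [h1] at h2
    have h3 : 0 < charDegree (θ : N → ℂ) := Nat.pos_of_ne_zero (fun h => apply_one_ne_zero θ (by rw [charDegree_cast', h, Nat.cast_zero]))
    nlinarith [Nat.pos_of_ne_zero hθ]
  · -- cyclotomic
    intro k hk hkp
    set χ' : IrrCharacter G := ⟨fun g => (χ : G → ℂ) (g ^ k), Cfsg.Agent.Characters.GaloisIrr.isIrr_pow hk χ.2⟩ with hχ'
    by_cases heq : χ' = χ
    · intro g
      exact congrFun (congrArg Subtype.val heq) g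
    · exfalso
      have h1 : m χ' = m χ := by
        have h2 : classInner Ψ (χ' : G → ℂ) = classInner Ψ (χ : G → ℂ) := by
          rw [← inner_pow hk Ψ (χ : G → ℂ)]
          congr 1
          funext g
          exact (hcyc k hk hkp g).symm
        rw [hmul, hmul] at h2
        exact_mod_cast h2
      have h3 : r χ' θ = r χ θ := by
        have hkN : k.Coprime (Nat.card N) := hk.coprime_dvd_right (card_subgroup_dvd_card N)
        have h2 : classInner (fun n : N => (χ' : G → ℂ) n) (θ : N → ℂ) = classInner (fun n : N => (χ : G → ℂ) n) (θ : N → ℂ) := by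
          rw [← inner_pow hkN (fun n : N => (χ : G → ℂ) n) (θ : N → ℂ)]
          congr 1
          funext g
          exact (hθc k hkN hkp g).symm
        rw [hr, hr] at h2
        exact_mod_cast h2
      have h4 : m χ * r χ θ + m χ' * r χ' θ ≤ ∑ ψ : IrrCharacter G, m ψ * r ψ θ := by
        have h5 : ∑ ψ ∈ ({χ, χ'} : Finset (IrrCharacter G)), m ψ * r ψ θ ≤ ∑ ψ : IrrCharacter G, m ψ * r ψ θ :=
          Finset.sum_le_sum_of_subset (Finset.subset_univ _)
        rw [Finset.sum_pair (fun h => heq h.symm)] at h5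
        exact h5
      rw [h1, h3, hone'] at h4
      omega

end Cfsg.Agent.H125.PC
end

-- part: H125/PC/Ten
section
set_option linter.all false
open scoped Cfsg.Agent.FastGrp

/-!
# S4829: tensor induction with Galois action (helper125)

* `T_mul` : the generalized permutation-tensor matrices multiply;
* `exists_ten` : the tensor induced character `Ψ` along a cocycle; it is fixed by every automorphism of `ℂ` fixing the
  values of `ψ`;
* `cyc_ten` : `Cyc p ψ` implies `Cyc p Ψ`.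
-/

set_option autoImplicit false
set_option linter.unusedSectionVars false

open scoped ComplexConjugate

namespace Cfsg.Agent.H125.PC

open Cfsg Cfsg.Agent.Characters

universe u v w

section tmat

variable {ι : Type w} [Fintype ι] [DecidableEq ι] {d : ℕ}

/-- the matrix of `⊗ C i` followed by a permutation of the factors -/
def TM (q : Equiv.Perm ι) (C : ι → Matrix (Fin d) (Fin d) ℂ) : Matrix (ι → Fin d) (ι → Fin d) ℂ :=
  Matrix.of fun x y => ∏ i, C i (x (q i)) (y i)

theorem TM_mul (q r : Equiv.Perm ι) (C D : ι → Matrix (Fin d) (Fin d) ℂ) :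
    TM q C * TM r D = TM (q * r) (fun i => C (r i) * D i) := by
  symm
  ext x z
  rw [Matrix.mul_apply]
  simp only [TM, Matrix.of_apply]
  have e1 : ∀ i, (C (r i) * D i) (x ((q * r) i)) (z i) = ∑ k, C (r i) (x (q (r i))) k * D i k (z i) := by
    intro i
    rw [Matrix.mul_apply]
    rfl
  rw [Finset.prod_congr rfl fun i _ => e1 i, Finset.prod_univ_sum, Fintype.piFinset_univ]
  rw [← Equiv.sum_comp (Equiv.arrowCongr r.symm (Equiv.refl (Fin d)))]
  refine Finset.sum_congr rfl fun w _ => ?_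
  rw [← Equiv.prod_comp r (fun j => C j (x (q j)) _), ← Finset.prod_mul_distrib]
  refine Finset.prod_congr rfl fun i _ => ?_
  simp [Equiv.arrowCongr]

theorem TM_one : TM (ι := ι) (d := d) 1 (fun _ => 1) = 1 := by
  ext x y
  change ∏ i, (1 : Matrix (Fin d) (Fin d) ℂ) (x i) (y i) = _
  by_cases hxy : x = y
  · subst hxy
    simp
  · obtain ⟨i, hi⟩ := Function.ne_iff.1 hxy
    rw [Matrix.one_apply_ne hxy]
    exact Finset.prod_eq_zero (Finset.mem_univ i) (Matrix.one_apply_ne hi)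

theorem trace_TM_one (C : ι → Matrix (Fin d) (Fin d) ℂ) : Matrix.trace (TM 1 C) = ∏ i, Matrix.trace (C i) := by
  have h1 : ∏ i, Matrix.trace (C i) = ∏ i, ∑ k, C i k k := rfl
  rw [h1, Finset.prod_univ_sum, Fintype.piFinset_univ]
  rfl

theorem map_trace_TM (σ : ℂ ≃+* ℂ) (q : Equiv.Perm ι) (C : ι → Matrix (Fin d) (Fin d) ℂ) :
    σ (Matrix.trace (TM q C)) = Matrix.trace (TM q fun i => (C i).map σ) := by
  rw [Matrix.trace, Matrix.trace, map_sum]
  refine Finset.sum_congr rfl fun x _ => ?_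
  simp [TM, map_prod]

/-- conjugating all factors by the same matrix does not change the trace -/
theorem trace_TM_conj (q : Equiv.Perm ι) (C : ι → Matrix (Fin d) (Fin d) ℂ) (B B' : Matrix (Fin d) (Fin d) ℂ)
    (hB : B * B' = 1) : Matrix.trace (TM q fun i => B' * C i * B) = Matrix.trace (TM q C) := by
  have h1 : TM q (fun i => B' * C i * B) = TM 1 (fun _ => B') * (TM q C * TM 1 (fun _ => B)) := by
    rw [TM_mul, TM_mul, mul_one, one_mul]
    congr 1
    funext i
    simp [mul_assoc]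
  have h2 : TM (ι := ι) 1 (fun _ => B) * TM 1 (fun _ => B') = 1 := by
    rw [TM_mul, mul_one]
    simp only [hB]
    exact TM_one
  rw [h1, Matrix.trace_mul_comm, mul_assoc, h2, mul_one]

end tmat

section tensor

variable {G : Type u} {A : Type v} {ι : Type w} [Group G] [Group A] [Finite A] [Fintype ι] [DecidableEq ι]

/-- **Tensor induction.** -/
theorem exists_ten (π : G →* Equiv.Perm ι) (a : G → ι → A)
    (ha : ∀ g h i, a (g * h) i = a g (π h i) * a h i) {ψ : A → ℂ} (hψ : IsCharacter A ψ) :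
    ∃ Ψ : G → ℂ, IsCharacter G Ψ ∧ (∀ g, π g = 1 → Ψ g = ∏ i, ψ (a g i)) ∧
      ∀ σ : ℂ ≃+* ℂ, (∀ x, σ (ψ x) = ψ x) → ∀ g, σ (Ψ g) = Ψ g := by
  obtain ⟨d, ρ₀, rfl⟩ := hψ
  let R : A →* Matrix (Fin d) (Fin d) ℂ := (LinearMap.toMatrixAlgEquiv' (R := ℂ) (n := Fin d)).toMonoidHom.comp ρ₀
  have hR : ∀ x, R x = LinearMap.toMatrix' (ρ₀ x) := fun _ => rfl
  have htr : ∀ x, ρ₀.character x = Matrix.trace (R x) := by
    intro x
    have h3 : Matrix.toLin' (R x) = ρ₀ x := Matrix.toLin'_toMatrix' _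
    have h4 : LinearMap.trace ℂ _ (Matrix.toLin' (R x)) = Matrix.trace (R x) := Matrix.trace_toLin'_eq _
    rw [h3] at h4
    exact h4
  have ha1 : ∀ i, a 1 i = 1 := by
    intro i
    have := ha 1 1 i
    rw [mul_one, map_one] at this
    exact (mul_eq_right.1 this.symm)
  let Mt : G →* Matrix (ι → Fin d) (ι → Fin d) ℂ :=
    { toFun := fun g => TM (π g) (fun i => R (a g i))
      map_one' := by
        simp only [map_one, ha1]
        exact TM_one
      map_mul' := by
        intro g h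
        rw [TM_mul, map_mul]
        congr 1
        funext i
        rw [ha, map_mul] }
  let ρ : Representation ℂ G ((ι → Fin d) → ℂ) :=
    (Matrix.toLinAlgEquiv' (R := ℂ) (n := (ι → Fin d))).toMonoidHom.comp Mt
  have hρ : ∀ g, ρ.character g = Matrix.trace (TM (π g) (fun i => R (a g i))) := by
    intro g
    change LinearMap.trace ℂ _ (Matrix.toLin' (TM (π g) (fun i => R (a g i)))) = _
    rw [Matrix.trace_toLin'_eq]
  refine ⟨ρ.character, Core.isCharacter_of_rep ρ, fun g hg => ?_, fun σ hσ g => ?_⟩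
  · rw [hρ, hg, trace_TM_one]
    exact Finset.prod_congr rfl fun i _ => (htr _).symm
  · have h1 : (GaloisBasic.twist σ ρ₀).character = ρ₀.character := by
      funext x
      rw [GaloisBasic.twist_character, hσ]
    obtain ⟨e⟩ := EquivOfChar.nonempty_equiv_of_character_eq _ _ h1
    let B : Matrix (Fin d) (Fin d) ℂ := LinearMap.toMatrix' e.toLinearEquiv.toLinearMap
    let B' : Matrix (Fin d) (Fin d) ℂ := LinearMap.toMatrix' e.toLinearEquiv.symm.toLinearMap
    have hBB' : B * B' = 1 := by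
      rw [← LinearMap.toMatrix'_comp, ← LinearMap.toMatrix'_id]
      congr 1
      exact LinearMap.ext fun v => e.toLinearEquiv.apply_symm_apply v
    have hB'B : B' * B = 1 := by
      rw [← LinearMap.toMatrix'_comp, ← LinearMap.toMatrix'_id]
      congr 1
      exact LinearMap.ext fun v => e.toLinearEquiv.symm_apply_apply v
    have h2 : ∀ x, (R x).map σ = B' * R x * B := by
      intro x
      have h3 : e.toLinearEquiv.toLinearMap ∘ₗ (GaloisBasic.twist σ ρ₀ x) = ρ₀ x ∘ₗ e.toLinearEquiv.toLinearMap := by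
        exact LinearMap.ext fun v => congrFun (congrArg DFunLike.coe (e.toIntertwiningMap.isIntertwining' x)) v
      have h4 := congrArg LinearMap.toMatrix' h3
      rw [LinearMap.toMatrix'_comp, LinearMap.toMatrix'_comp] at h4
      have h5 : LinearMap.toMatrix' (GaloisBasic.twist σ ρ₀ x) = (R x).map σ := LinearMap.toMatrix'_toLin' _
      rw [h5] at h4
      have h6 : B * (R x).map σ = R x * B := h4
      rw [mul_assoc, ← h6, ← mul_assoc, hB'B, one_mul]
    rw [hρ, map_trace_TM]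
    simp only [h2]
    exact trace_TM_conj _ _ _ _ hBB'

/-- lifting exponents -/
theorem exists_lift {k n m : ℕ} (hk : k.Coprime n) (hn : n ≠ 0) (hm : m ≠ 0) :
    ∃ k' : ℕ, k' ≡ k [MOD n] ∧ k'.Coprime (n * m) := by
  have : NeZero (n * m) := ⟨Nat.mul_ne_zero hn hm⟩
  obtain ⟨u, hu⟩ := ZMod.unitsMap_surjective (Dvd.intro m rfl : n ∣ n * m) (ZMod.unitOfCoprime k hk)
  refine ⟨(u : ZMod (n * m)).val, ?_, ZMod.val_coe_unit_coprime u⟩
  have h1 := congrArg (fun z : (ZMod n)ˣ => (z : ZMod n)) hu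
  simp only [ZMod.unitsMap_val, ZMod.coe_unitOfCoprime] at h1
  rw [← ZMod.natCast_eq_natCast_iff, ← h1]
  simp

/-- `Cyc p` in terms of automorphisms of `ℂ` -/
theorem cyc_of_map {p : ℕ} [Finite G] (hpG : p ∣ Nat.card G) {Ψ : G → ℂ} (hΨ : IsCharacter G Ψ) {ψ : A → ℂ}
    (hψ : IsCharacter A ψ) (hc : Cyc p ψ)
    (h : ∀ σ : ℂ ≃+* ℂ, (∀ x, σ (ψ x) = ψ x) → ∀ g, σ (Ψ g) = Ψ g) : Cyc p Ψ := by
  intro k hk hkp g
  obtain ⟨k', h1, h2⟩ := exists_lift hk (Nat.card_pos (α := G)).ne' (Nat.card_pos (α := A)).ne'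
  obtain ⟨σ, hσ⟩ := GaloisBasic.exists_ringEquiv_pow
    (Nat.mul_ne_zero (Nat.card_pos (α := G)).ne' (Nat.card_pos (α := A)).ne') h2
  have hσG : ∀ x, σ (Ψ x) = Ψ (x ^ k') := fun x => GaloisBasic.map_apply_card σ (fun z hz => hσ z (by
    rw [pow_mul, hz, one_pow])) hΨ x
  have hσA : ∀ x, σ (ψ x) = ψ (x ^ k') := fun x => GaloisBasic.map_apply_card σ (fun z hz => hσ z (by
    rw [mul_comm, pow_mul, hz, one_pow])) hψ x
  have hkp' : k' ≡ 1 [MOD p] := (h1.of_dvd hpG).trans hkp
  have h3 : ∀ x, σ (ψ x) = ψ x := fun x => by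
    rw [hσA]
    exact hc k' (h2.coprime_dvd_right (Dvd.intro_left _ rfl)) hkp' x
  have h4 := h σ h3 g
  rw [hσG] at h4
  rw [← h4]
  congr 1
  rw [← pow_mod_natCard, ← pow_mod_natCard g k', h1]

end tensor

end Cfsg.Agent.H125.PC

private theorem dce_cef7ab1900df : _root_.True := by
  try have : _root_.True := by simp only [_root_.Cfsg.Agent.H125.PC.TM.eq_1]
  exact _root_.True.intro
end

-- part: H661/OC/OwnRX
section
prune_inst 0x4010000
set_option linter.all false
open scoped Cfsg.Agent.FastGrp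

/-!
# S4829: the part of a character over the characters of degree prime to `p` of a normal subgroup (helper661)

`ι : S →* G` injective with normal image, `Θ` a character of `G`.

* `exists_part` : `ψ`, the part of `Θ` lying over the irreducible characters of `S` of degree prime to `p`; it is fixed by
  every Galois map fixing `Θ`; if `p` does not divide `Θ(1)`, it does not divide `ψ(1)` either.
* `witA_of_char` : the witness `WitA` of S4829 when the constituents of degree prime to `p` of `Θ|S` have multiplicity one,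
  are nontrivial and `Cyc p`.
* `witA_ind` : `Θ` induced from a character of the stabilizer of a Sylow subgroup of `S`.
* `rowA_own` : **the row in own characteristic** from a character `lam` with values `±1` of the stabilizer of `U` in
  `MulAut S`, nontrivial on `N_S(U)`, such that every constituent of degree prime to `p` of the character of `S` induced
  from `lam` on `N_S(U)` has multiplicity one and is `Cyc p`.
-/

set_option autoImplicit false

open Cfsg

namespace Cfsg.Agent.H661.OC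

open Cfsg.Agent.Characters Cfsg.Agent.H770.CY
open scoped ComplexConjugate

universe u v

section part

variable {p : ℕ} {G : Type u} {S : Type v} [Group G] [Fintype G] [Group S] [Fintype S] {ι : S →* G}

/-- the irreducible constituents of the restriction to a normal subgroup have the same degree -/
theorem deg_eq (hι : Function.Injective ι) (hn : ι.range.Normal) {χ : G → ℂ} (hχ : IsIrrCharacter G χ) {θ θ' : S → ℂ}
    (hθ : IsIrrCharacter S θ) (hθ' : IsIrrCharacter S θ') (h1 : classInner (χ ∘ ι) θ ≠ 0)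
    (h2 : classInner (χ ∘ ι) θ' ≠ 0) : θ' 1 = θ 1 := by
  classical
  have : Fintype ι.range := Fintype.ofFinite _
  let e : S ≃* ι.range := MonoidHom.ofInjective hι
  have key : ∀ φ : S → ℂ, classInner (fun n : ι.range => χ n) (φ ∘ e.symm) = classInner (χ ∘ ι) φ := by
    intro φ
    have h3 := Clifford.classInner_comp_mulEquiv e (fun n : ι.range => χ n) (φ ∘ e.symm)
    rw [← h3]
    congr 1
    funext s
    show φ (e.symm (e s)) = φ s
    rw [MulEquiv.symm_apply_apply]
  obtain ⟨g, hg⟩ := Clifford.exists_conj_of_constituents ι.range hχ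
    (Core.isIrr_comp (e.symm : ι.range →* S) e.symm.surjective hθ)
    (Core.isIrr_comp (e.symm : ι.range →* S) e.symm.surjective hθ') (by
      show classInner (fun n : ι.range => χ n) (θ ∘ e.symm) ≠ 0
      rwa [key]) (by
      show classInner (fun n : ι.range => χ n) (θ' ∘ e.symm) ≠ 0
      rwa [key])
  have h4 := congrFun hg 1
  simpa using h4

/-- `χ` lies over a character of `S` of degree prime to `p` -/
def Lies (p : ℕ) (ι : S →* G) (χ : G → ℂ) : Prop :=
  ∃ θ : IrrCharacter S, ¬ p ∣ charDegree (θ : S → ℂ) ∧ classInner (χ ∘ ι) (θ : S → ℂ) ≠ 0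

omit [Fintype S] in
theorem charDegree_congr {θ θ' : S → ℂ} (h : θ' 1 = θ 1) : charDegree θ' = charDegree θ := by
  show ⌊(θ' 1).re⌋₊ = ⌊(θ 1).re⌋₊
  rw [h]

theorem exists_part (p : ℕ) (hι : Function.Injective ι) (hn : ι.range.Normal) {Θ : G → ℂ} (hΘ : IsCharacter G Θ) :
    ∃ ψ : G → ℂ, IsCharacter G ψ ∧
      (∀ θ : IrrCharacter S, ¬ p ∣ charDegree (θ : S → ℂ) → classInner (ψ ∘ ι) (θ : S → ℂ) = classInner (Θ ∘ ι) (θ : S → ℂ)) ∧
      (∀ θ : IrrCharacter S, p ∣ charDegree (θ : S → ℂ) → classInner (ψ ∘ ι) (θ : S → ℂ) = 0) ∧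
      ∀ k : ℕ, k.Coprime (Nat.card G) → (∀ g : G, Θ (g ^ k) = Θ g) → ∀ g : G, ψ (g ^ k) = ψ g := by
  classical
  have : Finite (IrrCharacter G) := Core.finite_irr
  let _ : Fintype (IrrCharacter G) := Fintype.ofFinite _
  have hΘc := Core.isCharacter_isClassFunction hΘ
  have hnat : ∀ χ : IrrCharacter G, ∃ n : ℕ, classInner Θ (χ : G → ℂ) = n :=
    fun χ => Core.classInner_isNat hΘ (Core.isIrr_isCharacter χ.2)
  choose a ha using hnat
  let c : IrrCharacter G → ℕ := fun χ => if Lies p ι (χ : G → ℂ) then a χ else 0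
  let ψ : G → ℂ := ∑ χ : IrrCharacter G, c χ • (χ : G → ℂ)
  have hψ : IsCharacter G ψ := Core.isCharacter_iff.2 ⟨c, rfl⟩
  have e0 : ∀ x : G, ψ x = ∑ χ : IrrCharacter G, (c χ : ℂ) * (χ : G → ℂ) x := by
    intro x
    have h0 : ψ x = ∑ χ : IrrCharacter G, (c χ • (χ : G → ℂ)) x := Finset.sum_apply _ _ _
    rw [h0]
    exact Finset.sum_congr rfl fun χ _ => nsmul_eq_mul _ _
  have e1 : ψ ∘ ι = ∑ χ : IrrCharacter G, (c χ : ℂ) • ((χ : G → ℂ) ∘ ι) := by
    funext s
    rw [Function.comp_apply, e0]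
    simp only [Function.comp_apply, Finset.sum_apply, Pi.smul_apply, smul_eq_mul]
  have e2 : Θ ∘ ι = ∑ χ : IrrCharacter G, (a χ : ℂ) • ((χ : G → ℂ) ∘ ι) := by
    funext s
    rw [Function.comp_apply]
    conv_lhs => rw [Core.classFunction_eq_sum hΘc]
    simp only [Function.comp_apply, Finset.sum_apply, Pi.smul_apply]
    exact Finset.sum_congr rfl fun χ _ => by rw [ha χ]
  refine ⟨ψ, hψ, fun θ hd => ?_, fun θ hd => ?_, fun k hk hΘk => ?_⟩
  · rw [e1, e2, Core.classInner_sum_left, Core.classInner_sum_left]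
    refine Finset.sum_congr rfl fun χ _ => ?_
    rw [Core.classInner_smul_left, Core.classInner_smul_left]
    by_cases hl : Lies p ι (χ : G → ℂ)
    · rw [show c χ = a χ from if_pos hl]
    · have h0 : classInner ((χ : G → ℂ) ∘ ι) (θ : S → ℂ) = 0 := by
        by_contra h
        exact hl ⟨θ, hd, h⟩
      rw [h0, mul_zero, mul_zero]
  · rw [e1, Core.classInner_sum_left]
    refine Finset.sum_eq_zero fun χ _ => ?_
    rw [Core.classInner_smul_left]
    by_cases hl : Lies p ι (χ : G → ℂ)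
    · obtain ⟨θ0, h0, h0'⟩ := hl
      have h3 : classInner ((χ : G → ℂ) ∘ ι) (θ : S → ℂ) = 0 := by
        by_contra h
        apply h0
        rw [← charDegree_congr (deg_eq hι hn χ.2 θ0.2 θ.2 h0' h)]
        exact hd
      rw [h3, mul_zero]
    · rw [show c χ = 0 from if_neg hl, Nat.cast_zero, zero_mul]
  · obtain ⟨σ, hσ⟩ := GaloisBasic.exists_ringEquiv_pow (Nat.card_pos (α := G)).ne' hk
    have hσG : ∀ (χ : G → ℂ), IsCharacter G χ → ∀ g : G, σ (χ g) = χ (g ^ k) := fun χ hχ g =>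
      GaloisBasic.map_apply_card σ hσ hχ g
    have hcard : Nat.card S ∣ Nat.card G := by
      rw [Nat.card_congr (MonoidHom.ofInjective hι).toEquiv]
      exact Subgroup.card_subgroup_dvd_card _
    have hkS : k.Coprime (Nat.card S) := Nat.Coprime.coprime_dvd_right hcard hk
    have hσS : ∀ (χ : S → ℂ), IsCharacter S χ → ∀ g : S, σ (χ g) = χ (g ^ k) := fun χ hχ g =>
      GaloisBasic.map_apply_card σ (fun z hz => hσ z (by
        obtain ⟨m, hm⟩ := hcard
        rw [hm, pow_mul, hz, one_pow])) hχ g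
    let E : IrrCharacter G → IrrCharacter G := fun χ => ⟨fun g => (χ : G → ℂ) (g ^ k), GaloisIrr.isIrr_pow hk χ.2⟩
    have hEσ : ∀ χ : IrrCharacter G, ((E χ : IrrCharacter G) : G → ℂ) = fun g => σ ((χ : G → ℂ) g) := fun χ =>
      funext fun g => (hσG χ (Core.isIrr_isCharacter χ.2) g).symm
    have hEinj : Function.Injective E := by
      intro χ χ' h
      apply Subtype.ext
      funext g
      have h1 := congrFun (congrArg Subtype.val h) g
      rw [hEσ, hEσ] at h1
      exact σ.injective h1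
    have hEb : Function.Bijective E := Finite.injective_iff_bijective.1 hEinj
    have haE : ∀ χ, a (E χ) = a χ := by
      intro χ
      have h1 : classInner Θ ((E χ : IrrCharacter G) : G → ℂ) = σ (classInner Θ (χ : G → ℂ)) := by
        rw [← GaloisIrr.classInner_map σ (Core.isIrr_isCharacter χ.2), hEσ]
        congr 1
        funext g
        rw [hσG Θ hΘ, hΘk]
      rw [ha, ha, map_natCast] at h1
      exact_mod_cast h1
    -- transport of constituents
    have hcon : ∀ (χ : IrrCharacter G) (θ : IrrCharacter S), classInner ((χ : G → ℂ) ∘ ι) (θ : S → ℂ) ≠ 0 →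
        classInner (((E χ : IrrCharacter G) : G → ℂ) ∘ ι) (fun s => (θ : S → ℂ) (s ^ k)) ≠ 0 := by
      intro χ θ h
      have h1 : (((E χ : IrrCharacter G) : G → ℂ) ∘ ι) = fun s => σ (((χ : G → ℂ) ∘ ι) s) := by
        funext s
        rw [Function.comp_apply, hEσ]
        rfl
      have h2 : (fun s => (θ : S → ℂ) (s ^ k)) = fun s => σ ((θ : S → ℂ) s) :=
        funext fun s => (hσS θ (Core.isIrr_isCharacter θ.2) s).symm
      rw [h1, h2, GaloisIrr.classInner_map σ (Core.isIrr_isCharacter θ.2)]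
      exact fun h3 => h (σ.injective (by rw [h3, map_zero]))
    have hpdeg : ∀ θ : S → ℂ, charDegree (fun s => θ (s ^ k)) = charDegree θ := fun θ =>
      charDegree_congr (by show θ (1 ^ k) = θ 1; rw [one_pow])
    have hL : ∀ χ : IrrCharacter G, Lies p ι (χ : G → ℂ) ↔ Lies p ι ((E χ : IrrCharacter G) : G → ℂ) := by
      intro χ
      constructor
      · rintro ⟨θ, h1, h2⟩
        exact ⟨⟨fun s => (θ : S → ℂ) (s ^ k), GaloisIrr.isIrr_pow hkS θ.2⟩, by
          show ¬ p ∣ charDegree (fun s => (θ : S → ℂ) (s ^ k))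
          rw [hpdeg]
          exact h1, hcon χ θ h2⟩
      · rintro ⟨θ0, h1, h2⟩
        obtain ⟨θ, hθ⟩ : ∃ θ : IrrCharacter S, classInner ((χ : G → ℂ) ∘ ι) (θ : S → ℂ) ≠ 0 := by
          by_contra hcon2
          push Not at hcon2
          have h3 : (χ : G → ℂ) ∘ ι = 0 := Core.classFunction_eq_zero
            (Core.isCharacter_isClassFunction (Core.isCharacter_comp ι (Core.isIrr_isCharacter χ.2)))
            fun φ hφ => hcon2 ⟨φ, hφ⟩
          have h4 := congrFun h3 1
          rw [Function.comp_apply, map_one] at h4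
          exact Core.isIrr_apply_one_ne_zero χ.2 h4
        refine ⟨θ, ?_, hθ⟩
        have h5 := deg_eq hι hn (E χ).2 θ0.2 (GaloisIrr.isIrr_pow hkS θ.2) h2 (hcon χ θ hθ)
        rw [← hpdeg (θ : S → ℂ), charDegree_congr h5]
        exact h1
    have hcE : ∀ χ, c (E χ) = c χ := by
      intro χ
      by_cases hl : Lies p ι (χ : G → ℂ)
      · rw [show c χ = a χ from if_pos hl, show c (E χ) = a (E χ) from if_pos ((hL χ).1 hl), haE]
      · rw [show c χ = 0 from if_neg hl, show c (E χ) = 0 from if_neg (fun h => hl ((hL χ).2 h))]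
    intro g
    rw [e0, e0]
    refine Fintype.sum_bijective E hEb _ _ fun χ => ?_
    rw [hcE]

omit [Fintype G] in
/-- the degree of the part -/
theorem part_degree (p : ℕ) {Θ ψ : G → ℂ} (hΘ : IsCharacter G Θ) (hψ : IsCharacter G ψ)
    (h1 : ∀ θ : IrrCharacter S, ¬ p ∣ charDegree (θ : S → ℂ) → classInner (ψ ∘ ι) (θ : S → ℂ) = classInner (Θ ∘ ι) (θ : S → ℂ))
    (h2 : ∀ θ : IrrCharacter S, p ∣ charDegree (θ : S → ℂ) → classInner (ψ ∘ ι) (θ : S → ℂ) = 0)
    {D : ℕ} (hD : Θ 1 = D) (hpD : ¬ p ∣ D) : ∃ d : ℕ, ψ 1 = d ∧ ¬ p ∣ d := by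
  classical
  have : Finite (IrrCharacter S) := Core.finite_irr
  let _ : Fintype (IrrCharacter S) := Fintype.ofFinite _
  obtain ⟨d, hd⟩ := Core.isCharacter_apply_one hψ
  refine ⟨d, hd, fun hpd => hpD ?_⟩
  have hΘι : IsCharacter S (Θ ∘ ι) := Core.isCharacter_comp ι hΘ
  have hψι : IsCharacter S (ψ ∘ ι) := Core.isCharacter_comp ι hψ
  have hnat : ∀ θ : IrrCharacter S, ∃ n : ℕ, classInner (Θ ∘ ι) (θ : S → ℂ) = n :=
    fun θ => Core.classInner_isNat hΘι (Core.isIrr_isCharacter θ.2)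
  choose m hm using hnat
  have e1 : (D : ℂ) = ∑ θ : IrrCharacter S, (m θ : ℂ) * (charDegree (θ : S → ℂ) : ℂ) := by
    have h3 := congrFun (Core.classFunction_eq_sum (Core.isCharacter_isClassFunction hΘι)) 1
    rw [Function.comp_apply, map_one, hD] at h3
    rw [h3]
    simp only [Finset.sum_apply, Pi.smul_apply, smul_eq_mul]
    exact Finset.sum_congr rfl fun θ _ => by rw [hm, Cfsg.Agent.Blocks.Basic.irr_one_eq_charDegree θ.2]
  have e2 : (d : ℂ) = ∑ θ : IrrCharacter S, ((if p ∣ charDegree (θ : S → ℂ) then 0 else m θ : ℕ) : ℂ) *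
      (charDegree (θ : S → ℂ) : ℂ) := by
    have h3 := congrFun (Core.classFunction_eq_sum (Core.isCharacter_isClassFunction hψι)) 1
    rw [Function.comp_apply, map_one, hd] at h3
    rw [h3]
    simp only [Finset.sum_apply, Pi.smul_apply, smul_eq_mul]
    refine Finset.sum_congr rfl fun θ _ => ?_
    rw [Cfsg.Agent.Blocks.Basic.irr_one_eq_charDegree θ.2]
    split_ifs with h
    · rw [h2 θ h, Nat.cast_zero]
    · rw [h1 θ h, hm]
  have e3 : D = ∑ θ : IrrCharacter S, m θ * charDegree (θ : S → ℂ) := by exact_mod_cast e1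
  have e4 : d = ∑ θ : IrrCharacter S, (if p ∣ charDegree (θ : S → ℂ) then 0 else m θ) * charDegree (θ : S → ℂ) := by
    exact_mod_cast e2
  have e5 : D = d + ∑ θ : IrrCharacter S, (if p ∣ charDegree (θ : S → ℂ) then m θ * charDegree (θ : S → ℂ) else 0) := by
    rw [e3, e4, ← Finset.sum_add_distrib]
    refine Finset.sum_congr rfl fun θ _ => ?_
    split_ifs with h
    · rw [zero_mul, zero_add]
    · rw [add_zero]
  rw [e5]
  refine dvd_add hpd (Finset.dvd_sum fun θ _ => ?_)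
  split_ifs with h
  · exact h.mul_left _
  · exact dvd_zero p

end part

section wit

variable {p : ℕ} {S : Type u} [Group S] [Fintype S]

omit [Fintype S] in
theorem range_normal (A : Subgroup (MulAut S)) (hA : ∀ s : S, MulAut.conj s ∈ A) :
    ((MulAut.conj : S →* MulAut S).codRestrict A hA).range.Normal := by
  constructor
  rintro _ ⟨s, rfl⟩ g
  refine ⟨(g : MulAut S) s, Subtype.ext ?_⟩
  apply MulEquiv.ext
  intro x
  show (g : MulAut S) s * x * ((g : MulAut S) s)⁻¹ = (g : MulAut S) (s * (g : MulAut S)⁻¹ x * s⁻¹)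
  rw [map_mul, map_mul, map_inv, MulAut.apply_inv_self]

theorem mul_eq (ψ θ : S → ℂ) : mul ψ θ = classInner ψ θ := rfl

/-- **the witness from a character of `A`** -/
theorem witA_of_char [Fact p.Prime] {M : Ideal AlgInt} (hM : IsPModular p M) (A : Subgroup (MulAut S)) (hA : ∀ s : S, MulAut.conj s ∈ A)
    (hinj : Function.Injective (MulAut.conj : S →* MulAut S))
    (hC : ∀ a : A, ¬ p ∣ orderOf a → (∃ Q : Sylow p S, ∀ x ∈ Q, (a : MulAut S) x = x) → a = 1)
    {Θ : A → ℂ} (hΘ : IsCharacter A Θ) (hΘc : Cyc p Θ) {D : ℕ} (hD : Θ 1 = D) (hpD : ¬ p ∣ D)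
    (h3 : ∀ θ : IrrCharacter S, ¬ p ∣ charDegree (θ : S → ℂ) → classInner (res hA Θ) (θ : S → ℂ) ≠ 0 →
      classInner (res hA Θ) (θ : S → ℂ) = 1 ∧ (θ : S → ℂ) ≠ (fun _ => 1) ∧ Cyc p (θ : S → ℂ)) :
    ∃ Ψ : A → ℂ, WitA p M S A hA Ψ := by
  classical
  have : Fintype A := Fintype.ofFinite _
  let ι : S →* A := (MulAut.conj : S →* MulAut S).codRestrict A hA
  have hι : Function.Injective ι := fun x y h => hinj (congrArg Subtype.val h)
  obtain ⟨ψ, hψ, k1, k2, k3⟩ := exists_part p hι (range_normal A hA) hΘ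
  have hψres : ψ ∘ ι = res hA ψ := rfl
  have hΘres : Θ ∘ ι = res hA Θ := rfl
  refine ⟨ψ, ⟨hψ, fun k hk hkp => k3 k hk (hΘc k hk hkp), part_degree (ι := ι) p hΘ hψ k1 k2 hD hpD, ?_, ?_⟩⟩
  · intro θ
    rw [mul_eq]
    by_cases h5 : p ∣ charDegree (θ : S → ℂ)
    · exact Or.inl (k2 θ h5)
    · have h6 := k1 θ h5
      rw [hψres, hΘres] at h6
      rw [h6]
      by_cases h7 : classInner (res hA Θ) (θ : S → ℂ) = 0
      · exact Or.inl h7
      · exact Or.inr (h3 θ h5 h7)
  · intro a ha hQ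
    rw [hC a ha hQ, sub_self]
    exact ⟨0, 1, M.zero_mem, fun h => hM.2.1.ne_top (M.eq_top_of_isUnit_mem h isUnit_one), by simp⟩

/-- the image of a Sylow subgroup under an automorphism is conjugate to it -/
theorem frattini [Fact p.Prime] (U : Sylow p S) (a : MulAut S) :
    ∃ t : S, ∀ x : S, x ∈ U ↔ ((MulAut.conj t)⁻¹ * a) x ∈ U := by
  obtain ⟨t, ht⟩ := MulAction.exists_smul_eq S U (a • U)
  refine ⟨t, fun x => ?_⟩
  have h1 : a x ∈ (a • U : Sylow p S) ↔ x ∈ U := by
    have := Subgroup.smul_mem_pointwise_smul_iff (a := a) (S := (U : Subgroup S)) (x := x)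
    exact this
  rw [← h1, ← ht]
  show a x ∈ (t • U : Sylow p S) ↔ (MulAut.conj t)⁻¹ (a x) ∈ U
  have h2 := Subgroup.mem_pointwise_smul_iff_inv_smul_mem (a := MulAut.conj t) (S := (U : Subgroup S)) (x := a x)
  exact h2

/-- **the witness from a character of the stabilizer of a Sylow subgroup** -/
theorem witA_ind [Fact p.Prime] {M : Ideal AlgInt} (hM : IsPModular p M) (A : Subgroup (MulAut S))
    (hA : ∀ s : S, MulAut.conj s ∈ A) (hinj : Function.Injective (MulAut.conj : S →* MulAut S))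
    (hC : ∀ a : A, ¬ p ∣ orderOf a → (∃ Q : Sylow p S, ∀ x ∈ Q, (a : MulAut S) x = x) → a = 1)
    (U : Sylow p S) (H : Subgroup A) (hH : ∀ a : A, (∀ x : S, x ∈ U ↔ (a : MulAut S) x ∈ U) → a ∈ H)
    {lam : H → ℂ} (hlam : IsCharacter H lam) {m : ℕ} (hm : lam 1 = m) (hpm : ¬ p ∣ m)
    (hpow : ∀ k : ℕ, k.Coprime (Nat.card A) → k ≡ 1 [MOD p] → ∀ b : H, lam (b ^ k) = lam b)
    (K : Subgroup S) (hK : ∀ s : S, s ∈ K ↔ (⟨MulAut.conj s, hA s⟩ : A) ∈ H)
    (h3 : ∀ θ : IrrCharacter S, ¬ p ∣ charDegree (θ : S → ℂ) →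
      classInner (indFun K (fun t => lam ⟨⟨MulAut.conj (t : S), hA t⟩, (hK t).1 t.2⟩)) (θ : S → ℂ) ≠ 0 →
      classInner (indFun K (fun t => lam ⟨⟨MulAut.conj (t : S), hA t⟩, (hK t).1 t.2⟩)) (θ : S → ℂ) = 1 ∧
        (θ : S → ℂ) ≠ (fun _ => 1) ∧ Cyc p (θ : S → ℂ)) :
    ∃ Ψ : A → ℂ, WitA p M S A hA Ψ := by
  classical
  have : Fintype A := Fintype.ofFinite _
  let ι : S →* A := (MulAut.conj : S →* MulAut S).codRestrict A hA
  have hHι : ∀ x : A, ∃ t : S, (ι t)⁻¹ * x ∈ H := by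
    intro x
    obtain ⟨t, ht⟩ := frattini U (x : MulAut S)
    exact ⟨t, hH _ ht⟩
  have hKι : K = H.comap ι := by
    ext s
    exact hK s
  subst hKι
  have hcl := Core.isCharacter_isClassFunction hlam
  have hres : res hA (indFun H lam) = indFun (H.comap ι) (fun t => lam ⟨ι t, t.2⟩) := by
    funext s
    exact Cfsg.Agent.H687.indFun_comp ι H hHι lam (fun a b => by
      have := hcl b a⁻¹
      rwa [inv_inv] at this) s
  have hU : (U : Subgroup S) ≤ H.comap ι := by
    intro u hu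
    refine hH _ fun x => ?_
    show x ∈ (U : Subgroup S) ↔ u * x * u⁻¹ ∈ (U : Subgroup S)
    rw [Subgroup.mul_mem_cancel_right _ (Subgroup.inv_mem _ hu), Subgroup.mul_mem_cancel_left _ hu]
  have hdeg : indFun H lam 1 = ((H.comap ι).index * m : ℕ) := by
    have h4 := congrFun hres 1
    have h4' : res hA (indFun H lam) 1 = indFun H lam 1 := congrArg (indFun H lam) (map_one ι)
    have h5 : (fun t : H.comap ι => lam ⟨ι t, t.2⟩) 1 = lam 1 := congrArg lam (Subtype.ext (map_one ι))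
    have h6 := Cfsg.Agent.H589.BD.indFun_one (H.comap ι) (fun t : H.comap ι => lam ⟨ι t, t.2⟩)
    rw [← h4', h4, h6.trans (congrArg (fun z : ℂ => ((H.comap ι).index : ℂ) * z) (h5.trans hm))]
    push_cast
    ring
  refine witA_of_char hM A hA hinj hC (Brauer.isCharacter_indFun H hlam) (fun k hk hkp => ?_) hdeg ?_ ?_
  · have hl := hpow k hk hkp
    intro g
    rw [Core.indFun_apply, Core.indFun_apply]
    congr 1
    refine Finset.sum_congr rfl fun x _ => ?_
    have e : x⁻¹ * g ^ k * x = (x⁻¹ * g * x) ^ k := by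
      have := conj_pow (i := k) (a := x⁻¹) (b := g)
      rw [inv_inv] at this
      exact this.symm
    rw [e]
    set y := x⁻¹ * g * x with hy
    by_cases hyB : y ∈ H
    · rw [Core.extendByZero_of_mem H lam hyB, Core.extendByZero_of_mem H lam (H.pow_mem hyB k)]
      exact hl ⟨y, hyB⟩
    · have hyk : y ^ k ∉ H := by
        intro h
        apply hyB
        obtain ⟨j, hj⟩ := exists_pow_eq_self_of_coprime (hk.coprime_dvd_right (orderOf_dvd_natCard y))
        rw [← hj]
        exact H.pow_mem h j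
      rw [Core.extendByZero_of_notMem H lam hyB, Core.extendByZero_of_notMem H lam hyk]
  · intro h
    rcases (Nat.Prime.dvd_mul (Fact.out : p.Prime)).1 h with h | h
    · exact U.not_dvd_index (h.trans (Subgroup.index_dvd_of_le hU))
    · exact hpm h
  · intro θ h4 h5
    rw [hres] at h5 ⊢
    exact h3 θ h4 h5

/-- a linear character with values `±1` is fixed by the powers coprime to the order of the ambient group -/
theorem pow_eq_of_sq {A : Type*} [Group A] [Finite A] (H : Subgroup A) (lam : H →* ℂˣ) (h2 : ∀ b, lam b ^ 2 = 1)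
    {k : ℕ} (hk : k.Coprime (Nat.card A)) (b : H) : lam (b ^ k) = lam b := by
  rw [map_pow]
  by_cases hb : lam b = 1
  · rw [hb, one_pow]
  · have ho : orderOf (lam b) = 2 := orderOf_eq_prime (h2 b) hb
    have h3 : 2 ∣ Nat.card A := by
      have h4 : orderOf (lam b) ∣ orderOf b := orderOf_map_dvd lam b
      rw [ho] at h4
      exact h4.trans ((orderOf_dvd_natCard b).trans (Subgroup.card_subgroup_dvd_card H))
    have h5 : k.Coprime 2 := hk.coprime_dvd_right h3
    have h6 : k % 2 = 1 := by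
      rcases Nat.even_or_odd k with h | h
      · exfalso
        obtain ⟨r, hr⟩ := h
        have h7 : 2 ∣ Nat.gcd k 2 := Nat.dvd_gcd ⟨r, by omega⟩ dvd_rfl
        rw [h5] at h7
        omega
      · exact Nat.odd_iff.1 h
    rw [← Nat.div_add_mod k 2, h6, pow_add, pow_mul, h2, one_pow, one_mul, pow_one]

/-- **The row of S4829 in own characteristic.** -/
theorem rowA_own [Fact p.Prime] (hinj : Function.Injective (MulAut.conj : S →* MulAut S))
    (hC : ∀ a : MulAut S, ¬ p ∣ orderOf a → (∃ Q : Sylow p S, ∀ x ∈ Q, a x = x) → a = 1)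
    (U : Sylow p S) (H : Subgroup (MulAut S)) (hH : ∀ a : MulAut S, (∀ x : S, x ∈ U ↔ a x ∈ U) → a ∈ H)
    (lam : H →* ℂˣ) (h2 : ∀ a, lam a ^ 2 = 1) (K : Subgroup S) (hK : ∀ s : S, s ∈ K ↔ MulAut.conj s ∈ H)
    (hne : ∃ (s : S) (h : MulAut.conj s ∈ H), lam ⟨MulAut.conj s, h⟩ ≠ 1)
    (h3 : ∀ θ : IrrCharacter S, ¬ p ∣ charDegree (θ : S → ℂ) →
      classInner (indFun K (fun t => ((lam ⟨MulAut.conj (t : S), (hK t).1 t.2⟩ : ℂˣ) : ℂ))) (θ : S → ℂ) ≠ 0 →
      classInner (indFun K (fun t => ((lam ⟨MulAut.conj (t : S), (hK t).1 t.2⟩ : ℂˣ) : ℂ))) (θ : S → ℂ) = 1 ∧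
        Cyc p (θ : S → ℂ)) : RowA p S := by
  classical
  intro A hA M hM
  let j : H.subgroupOf A →* H :=
    { toFun := fun b => ⟨((b : A) : MulAut S), Subgroup.mem_subgroupOf.1 b.2⟩
      map_one' := rfl
      map_mul' := fun _ _ => rfl }
  refine witA_ind hM A hA.1 hinj (fun a ha hQ => Subtype.ext (hC a (by rwa [Subgroup.orderOf_coe]) hQ)) U
    (H.subgroupOf A) (fun a ha => Subgroup.mem_subgroupOf.2 (hH a ha)) (lam := fun b => ((lam (j b) : ℂˣ) : ℂ))
    (Linear.isCharacter_hom (lam.comp j)) (m := 1) (by simp) (fun h => ?_) (fun k hk _ b => ?_) K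
    (fun s => (hK s).trans Iff.rfl) (fun θ hd hθ => ?_)
  · exact (Fact.out : p.Prime).one_lt.ne' (Nat.dvd_one.1 h)
  · show (((lam.comp j) (b ^ k) : ℂˣ) : ℂ) = (((lam.comp j) b : ℂˣ) : ℂ)
    rw [pow_eq_of_sq (H.subgroupOf A) (lam.comp j) (fun b => h2 (j b)) hk b]
  · have h4 := h3 θ hd hθ
    refine ⟨h4.1, fun h5 => ?_, h4.2⟩
    obtain ⟨s, hs, hs1⟩ := hne
    -- the trivial character is not a constituent
    have : Fintype K := Fintype.ofFinite _
    have hKc : IsClassFunction S (θ : S → ℂ) := Core.isIrr_isClassFunction θ.2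
    have h6 := Cfsg.Agent.OddOrderCharacters.Clifford.classInner_indFun K
      (fun t => ((lam ⟨MulAut.conj (t : S), (hK t).1 t.2⟩ : ℂˣ) : ℂ)) (θ : S → ℂ) hKc
    rw [h4.1] at h6
    let mu : K →* ℂˣ :=
      { toFun := fun t => lam ⟨MulAut.conj (t : S), (hK t).1 t.2⟩
        map_one' := by
          rw [← map_one lam]
          exact congrArg lam (Subtype.ext (map_one MulAut.conj))
        map_mul' := fun x y => by
          rw [← map_mul]
          exact congrArg lam (Subtype.ext (map_mul MulAut.conj (x : S) (y : S))) }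
    have h7 : IsIrrCharacter K (fun t => ((mu t : ℂˣ) : ℂ)) := Linear.isIrrCharacter_hom mu
    have h8 : classInner (fun t => ((mu t : ℂˣ) : ℂ)) (fun _ : K => (1 : ℂ)) = 0 := by
      refine Core.classInner_irr_ne h7 Core.isIrr_one fun h9 => hs1 ?_
      have h10 := congrFun h9 ⟨s, (hK s).2 hs⟩
      exact Units.ext h10
    rw [h5] at h6
    exact one_ne_zero (h6.trans h8)

omit [Fintype S] in
/-- a nonabelian simple group acts faithfully on itself -/
theorem conj_injective [IsSimpleGroup S] (hna : ¬ IsMulCommutative S) :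
    Function.Injective (MulAut.conj : S →* MulAut S) := by
  rw [injective_iff_map_eq_one]
  intro s hs
  have h1 : s ∈ Subgroup.center S := by
    rw [Subgroup.mem_center_iff]
    intro x
    have h2 : s * x * s⁻¹ = x := congrArg (fun a : MulAut S => a x) hs
    rw [mul_inv_eq_iff_eq_mul] at h2
    exact h2.symm
  rcases (inferInstance : (Subgroup.center S).Normal).eq_bot_or_eq_top with h | h
  · rw [h] at h1
    exact Subgroup.mem_bot.1 h1
  · exact absurd ⟨⟨fun x y => (Subgroup.mem_center_iff.1 (h ▸ Subgroup.mem_top y) x)⟩⟩ hna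

end wit

end Cfsg.Agent.H661.OC
end

-- part: H587/CY/Wit
section
prune_inst 0x4002004000000000000000020001e42aa000002004804000402000404800c0000050020a02000100000244400300008110000200220000000000000011800800800040080080000400000000000000000000000000000000000000000000000000000000
set_option linter.all false
open scoped Cfsg.Agent.FastGrp

-- part: H587/CY/Weil
section
/-!
# S4829: the Weil representation of `SL₂(q)`, `q` odd, on the functions on `F` (helper587)

`T t f x = ψ (t x²) f x`, `N a f x = η(a) f (a x)`, `M f x = (G / q) ∑ y, ψ (2 x y) f y`.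

* `gs_sq`, `sum_sq` : the Gauss sum.
* `rel` : the relations of `SL₂(F)`.
* `rho` : the homomorphism `SL₂(F) → GL(F → ℂ)`.
-/

set_option autoImplicit false
set_option linter.unusedSectionVars false

namespace Cfsg.Agent.H587.CY

open Matrix Cfsg.Agent.ONan.SL2Hom

universe u

variable {F : Type u} [Field F] [Fintype F] [DecidableEq F]

/-- the quadratic character -/
noncomputable def eta (a : F) : ℂ := ((quadraticChar F a : ℤ) : ℂ)

theorem eta_mul (a b : F) : eta (a * b) = eta a * eta b := by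
  unfold eta
  rw [map_mul, Int.cast_mul]

theorem eta_one : eta (1 : F) = 1 := by
  unfold eta
  rw [map_one, Int.cast_one]

theorem eta_sq {a : F} (ha : a ≠ 0) : eta a * eta a = 1 := by
  rw [← eta_mul, ← pow_two]
  unfold eta
  rw [quadraticChar_sq_one' ha, Int.cast_one]

theorem eta_inv {a : F} (ha : a ≠ 0) : eta a⁻¹ = eta a := by
  have h1 : eta a * eta a⁻¹ = 1 := by rw [← eta_mul, mul_inv_cancel₀ ha, eta_one]
  have h2 := eta_sq ha
  have h3 : eta a ≠ 0 := left_ne_zero_of_mul_eq_one h2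
  exact mul_left_cancel₀ h3 (h1.trans h2.symm)

theorem eta_ne {a : F} (ha : a ≠ 0) : eta a ≠ 0 := left_ne_zero_of_mul_eq_one (eta_sq ha)

theorem eta_cases {a : F} (ha : a ≠ 0) : eta a = 1 ∨ eta a = -1 :=
  mul_self_eq_one_iff.1 (eta_sq ha)

variable (ψ : AddChar F ℂ)

/-- the Gauss sum -/
noncomputable def gs : ℂ := gaussSum ((quadraticChar F).ringHomComp (Int.castRingHom ℂ)) ψ

variable {ψ}

theorem gs_eq : gs ψ = ∑ c : F, eta c * ψ c := rfl

theorem gs_sq (h2 : ringChar F ≠ 2) (hψ : ψ.IsPrimitive) : gs ψ ^ 2 = eta (-1 : F) * Fintype.card F := by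
  have h0 : (quadraticChar F).ringHomComp (Int.castRingHom ℂ) ≠ 1 := by
    intro h
    obtain ⟨a, ha⟩ := quadraticChar_exists_neg_one' h2
    have h3 : ((quadraticChar F).ringHomComp (Int.castRingHom ℂ)) a = 1 := by
      rw [h]
      exact MulChar.one_apply_coe a
    rw [MulChar.ringHomComp_apply, ha] at h3
    norm_num at h3
  exact gaussSum_sq h0 ((quadraticChar_isQuadratic F).comp _) hψ

theorem gs_ne (h2 : ringChar F ≠ 2) (hψ : ψ.IsPrimitive) : gs ψ ≠ 0 := by
  intro h
  have h1 := gs_sq h2 hψ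
  rw [h, zero_pow two_ne_zero] at h1
  exact mul_ne_zero (eta_ne (neg_ne_zero.2 one_ne_zero)) (Nat.cast_ne_zero.2 Fintype.card_ne_zero) h1.symm

/-- the quadratic sums -/
theorem sum_sq (h2 : ringChar F ≠ 2) (hψ : ψ.IsPrimitive) {a : F} (ha : a ≠ 0) :
    ∑ x : F, ψ (a * x ^ 2) = eta a * gs ψ := by
  have h1 : ∑ x : F, ψ (a * x ^ 2) = ∑ c : F, (eta c + 1) * ψ (a * c) := by
    rw [← Finset.sum_fiberwise (s := Finset.univ) (g := fun x : F => x ^ 2)]
    refine Finset.sum_congr rfl fun c _ => ?_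
    rw [Finset.sum_congr rfl (g := fun _ => ψ (a * c)) fun x hx => by
      rw [(Finset.mem_filter.1 hx).2]]
    rw [Finset.sum_const, nsmul_eq_mul]
    congr 1
    have h3 := quadraticChar_card_sqrts h2 c
    rw [Set.toFinset_card] at h3
    have h4 : (Finset.univ.filter fun x : F => x ^ 2 = c).card = Fintype.card {x : F | x ^ 2 = c} := by
      rw [Fintype.card_subtype]
      congr 1
    rw [h4]
    unfold eta
    exact_mod_cast h3
  have h5 : ∑ c : F, ψ (a * c) = 0 := by
    have h6 : (AddChar.mulShift ψ a) ≠ 1 := hψ ha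
    have h7 := AddChar.sum_eq_zero_of_ne_one h6
    simpa [AddChar.mulShift_apply] using h7
  have h6 : ∑ c : F, eta c * ψ (a * c) = eta a * gs ψ := by
    rw [gs_eq, Finset.mul_sum, ← Equiv.sum_comp (Equiv.mulLeft₀ a ha) fun c => eta a * (eta c * ψ c)]
    refine Finset.sum_congr rfl fun c _ => ?_
    rw [Equiv.mulLeft₀_apply, eta_mul, ← mul_assoc, ← mul_assoc, eta_sq ha, one_mul]
  rw [h1]
  simp only [add_mul, one_mul]
  rw [Finset.sum_add_distrib, h5, add_zero, h6]

variable (ψ)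

/-- multiplication by `ψ (t x²)` -/
noncomputable def Tl (t : F) : (F → ℂ) →ₗ[ℂ] (F → ℂ) where
  toFun f := fun x => ψ (t * x ^ 2) * f x
  map_add' f g := by
    funext x
    simp only [Pi.add_apply]
    ring
  map_smul' c f := by
    funext x
    simp only [Pi.smul_apply, smul_eq_mul, RingHom.id_apply]
    ring

/-- the torus -/
noncomputable def Nl (a : F) : (F → ℂ) →ₗ[ℂ] (F → ℂ) where
  toFun f := fun x => eta a * f (a * x)
  map_add' f g := by
    funext x
    simp only [Pi.add_apply]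
    ring
  map_smul' c f := by
    funext x
    simp only [Pi.smul_apply, smul_eq_mul, RingHom.id_apply]
    ring

/-- the Fourier transform -/
noncomputable def Ml : (F → ℂ) →ₗ[ℂ] (F → ℂ) where
  toFun f := fun x => gs ψ / Fintype.card F * ∑ y, ψ (2 * x * y) * f y
  map_add' f g := by
    funext x
    simp only [Pi.add_apply]
    rw [← mul_add, ← Finset.sum_add_distrib]
    congr 1
    exact Finset.sum_congr rfl fun y _ => by ring
  map_smul' c f := by
    funext x
    simp only [Pi.smul_apply, smul_eq_mul, RingHom.id_apply]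
    rw [mul_left_comm c, Finset.mul_sum _ _ c]
    congr 1
    exact Finset.sum_congr rfl fun y _ => by ring

variable {ψ}

theorem Tl_apply (t : F) (f : F → ℂ) (x : F) : Tl ψ t f x = ψ (t * x ^ 2) * f x := rfl

theorem Nl_apply (a : F) (f : F → ℂ) (x : F) : Nl a f x = eta a * f (a * x) := rfl

theorem Ml_apply (f : F → ℂ) (x : F) :
    Ml ψ f x = gs ψ / Fintype.card F * ∑ y, ψ (2 * x * y) * f y := rfl

theorem Tl_add (s t : F) : Tl ψ (s + t) = Tl ψ s ∘ₗ Tl ψ t := by
  refine LinearMap.ext fun f => funext fun x => ?_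
  rw [LinearMap.comp_apply, Tl_apply, Tl_apply, Tl_apply, add_mul, AddChar.map_add_eq_mul, mul_assoc]

theorem Tl_zero : Tl ψ 0 = LinearMap.id := by
  refine LinearMap.ext fun f => funext fun x => ?_
  rw [Tl_apply, zero_mul, AddChar.map_zero_eq_one, one_mul, LinearMap.id_apply]

theorem Nl_mul (a b : F) : Nl (a * b) = Nl a ∘ₗ Nl b := by
  refine LinearMap.ext fun f => funext fun x => ?_
  rw [LinearMap.comp_apply, Nl_apply, Nl_apply, Nl_apply, eta_mul, mul_assoc]
  congr 3
  ring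

theorem Nl_one : Nl (1 : F) = LinearMap.id := by
  refine LinearMap.ext fun f => funext fun x => ?_
  rw [Nl_apply, eta_one, one_mul, one_mul, LinearMap.id_apply]

theorem Nl_Tl (a t : F) : Nl a ∘ₗ Tl ψ t = Tl ψ (a ^ 2 * t) ∘ₗ Nl a := by
  refine LinearMap.ext fun f => funext fun x => ?_
  rw [LinearMap.comp_apply, LinearMap.comp_apply, Nl_apply, Tl_apply, Tl_apply, Nl_apply, mul_left_comm]
  have e : t * (a * x) ^ 2 = a ^ 2 * t * x ^ 2 := by ring
  rw [e]

theorem Ml_Nl {a : F} (ha : a ≠ 0) : Ml ψ ∘ₗ Nl a = Nl a⁻¹ ∘ₗ Ml ψ := by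
  refine LinearMap.ext fun f => funext fun x => ?_
  rw [LinearMap.comp_apply, LinearMap.comp_apply, Nl_apply, Ml_apply, Ml_apply, eta_inv ha, mul_left_comm]
  congr 1
  rw [← Equiv.sum_comp (Equiv.mulLeft₀ a⁻¹ (inv_ne_zero ha)), Finset.mul_sum]
  refine Finset.sum_congr rfl fun y _ => ?_
  have e : 2 * x * (a⁻¹ * y) = 2 * (a⁻¹ * x) * y := by ring
  rw [Equiv.mulLeft₀_apply, Nl_apply, mul_inv_cancel_left₀ ha, mul_left_comm, e]

theorem sum_psi (hψ : ψ.IsPrimitive) (b : F) : ∑ y : F, ψ (b * y) = if b = 0 then (Fintype.card F : ℂ) else 0 := by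
  have h := AddChar.sum_mulShift b hψ
  have e : (∑ y : F, ψ (b * y)) = ∑ y : F, ψ (y * b) := Finset.sum_congr rfl fun y _ => by rw [mul_comm]
  rw [e, h]
  split_ifs
  · rfl
  · rw [Nat.cast_zero]

theorem Ml_Ml (h2 : ringChar F ≠ 2) (hψ : ψ.IsPrimitive) : Ml ψ ∘ₗ Ml ψ = Nl (-1) := by
  have hq : (Fintype.card F : ℂ) ≠ 0 := Nat.cast_ne_zero.2 Fintype.card_ne_zero
  have h20 : (2 : F) ≠ 0 := Ring.two_ne_zero h2
  refine LinearMap.ext fun f => funext fun x => ?_
  rw [LinearMap.comp_apply, Ml_apply, Nl_apply]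
  have h1 : ∑ y, ψ (2 * x * y) * Ml ψ f y = gs ψ / Fintype.card F * (Fintype.card F * f (-1 * x)) := by
    have h3 : ∀ y, ψ (2 * x * y) * Ml ψ f y = gs ψ / Fintype.card F * ∑ z, f z * ψ (2 * (x + z) * y) := by
      intro y
      rw [Ml_apply, mul_left_comm, Finset.mul_sum]
      congr 1
      refine Finset.sum_congr rfl fun z _ => ?_
      rw [← mul_assoc, ← AddChar.map_add_eq_mul, mul_comm]
      congr 2
      ring
    rw [Finset.sum_congr rfl fun y _ => h3 y, ← Finset.mul_sum, Finset.sum_comm]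
    congr 1
    rw [Finset.sum_congr rfl fun z _ => (Finset.mul_sum _ _ _).symm]
    rw [Finset.sum_eq_single (-1 * x)]
    · rw [sum_psi hψ, if_pos (by ring), mul_comm]
    · intro z _ hz
      rw [sum_psi hψ, if_neg, mul_zero]
      intro h0
      apply hz
      have h5 : x + z = 0 := (mul_eq_zero.1 h0).resolve_left h20
      linear_combination h5
    · intro h
      exact absurd (Finset.mem_univ _) h
  rw [h1]
  have h4 := gs_sq h2 hψ
  generalize f (-1 * x) = z
  field_simp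
  linear_combination z * h4

theorem complete_sq (h2 : ringChar F ≠ 2) (hψ : ψ.IsPrimitive) {a : F} (ha : a ≠ 0) (b : F) :
    ∑ y : F, ψ (a * y ^ 2 + 2 * b * y) = ψ (-(b ^ 2 / a)) * (eta a * gs ψ) := by
  rw [← sum_sq h2 hψ ha, Finset.mul_sum, ← Equiv.sum_comp (Equiv.subRight (b / a))]
  refine Finset.sum_congr rfl fun y _ => ?_
  rw [← AddChar.map_add_eq_mul, Equiv.subRight_apply]
  congr 1
  field_simp
  ring

theorem Ml_Tl_Ml (h2 : ringChar F ≠ 2) (hψ : ψ.IsPrimitive) {a : F} (ha : a ≠ 0) :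
    Ml ψ ∘ₗ Tl ψ a ∘ₗ Ml ψ = Nl (-1 / a) ∘ₗ Tl ψ (-a) ∘ₗ Ml ψ ∘ₗ Tl ψ (-((-1) ^ 2 / a)) := by
  have hq : (Fintype.card F : ℂ) ≠ 0 := Nat.cast_ne_zero.2 Fintype.card_ne_zero
  refine LinearMap.ext fun f => funext fun x => ?_
  simp only [LinearMap.comp_apply]
  have hl : Ml ψ (Tl ψ a (Ml ψ f)) x =
      gs ψ / Fintype.card F * (gs ψ / Fintype.card F * ∑ z, f z * (ψ (-((x + z) ^ 2 / a)) * (eta a * gs ψ))) := by
    rw [Ml_apply]
    congr 1
    have h3 : ∀ y, ψ (2 * x * y) * Tl ψ a (Ml ψ f) y =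
        gs ψ / Fintype.card F * ∑ z, f z * ψ (a * y ^ 2 + 2 * (x + z) * y) := by
      intro y
      have h4 : ∑ z, f z * ψ (a * y ^ 2 + 2 * (x + z) * y) =
          ψ (2 * x * y) * ψ (a * y ^ 2) * ∑ z, ψ (2 * y * z) * f z := by
        rw [Finset.mul_sum]
        refine Finset.sum_congr rfl fun z _ => ?_
        have e : a * y ^ 2 + 2 * (x + z) * y = 2 * x * y + (a * y ^ 2 + 2 * y * z) := by ring
        rw [e, AddChar.map_add_eq_mul, AddChar.map_add_eq_mul]
        ring
      rw [h4, Tl_apply, Ml_apply]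
      ring
    rw [Finset.sum_congr rfl fun y _ => h3 y, ← Finset.mul_sum, Finset.sum_comm]
    congr 1
    refine Finset.sum_congr rfl fun z _ => ?_
    rw [← Finset.mul_sum, complete_sq h2 hψ ha]
  rw [hl, Nl_apply, Tl_apply, Ml_apply]
  have h5 : eta (-1 / a) = eta (-1 : F) * eta a := by rw [div_eq_mul_inv, eta_mul, eta_inv ha]
  rw [h5, Finset.mul_sum, Finset.mul_sum, Finset.mul_sum, Finset.mul_sum, Finset.mul_sum]
  refine Finset.sum_congr rfl fun z _ => ?_
  rw [Tl_apply]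
  have e1 : ψ (-((x + z) ^ 2 / a)) = ψ (-a * (-1 / a * x) ^ 2) * (ψ (2 * (-1 / a * x) * z) *
      ψ (-((-1) ^ 2 / a) * z ^ 2)) := by
    rw [← AddChar.map_add_eq_mul, ← AddChar.map_add_eq_mul]
    congr 1
    field_simp
    ring
  rw [e1]
  have h6 := gs_sq h2 hψ
  generalize ψ (-a * (-1 / a * x) ^ 2) = A
  generalize ψ (2 * (-1 / a * x) * z) = B
  generalize ψ (-((-1) ^ 2 / a) * z ^ 2) = C
  generalize eta (-1 : F) = D at h6 ⊢
  field_simp
  linear_combination (f z * gs ψ * eta a * A * B * C) * h6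

/-! ### The additive character -/

omit [DecidableEq F] in
/-- a primitive additive character fixed by the field automorphisms, with values `p`-th roots of unity -/
theorem exists_psi (p : ℕ) [Fact p.Prime] [CharP F p] : ∃ ψ : AddChar F ℂ, ψ.IsPrimitive ∧
    (∀ (σ : F ≃+* F) x, ψ (σ x) = ψ x) ∧ ∀ x, ψ x ^ p = 1 := by
  obtain rfl : p = ringChar F := (ringChar.eq F p).symm
  let _ : Algebra (ZMod (ringChar F)) F := ZMod.algebra F (ringChar F)
  let ψ : AddChar F ℂ := (ZMod.stdAddChar (N := ringChar F)).compAddMonoidHom (Algebra.trace (ZMod (ringChar F)) F).toAddMonoidHom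
  have hψ : ∀ x, ψ x = ZMod.stdAddChar (N := ringChar F) (Algebra.trace (ZMod (ringChar F)) F x) := fun x => rfl
  refine ⟨ψ, ?_, ?_, ?_⟩
  · intro a ha h
    have h1 : ∀ x, Algebra.trace (ZMod (ringChar F)) F (a * x) = 0 := by
      intro x
      have h2 := DFunLike.congr_fun h x
      rw [AddChar.mulShift_apply, AddChar.one_apply, hψ] at h2
      rw [← ZMod.stdAddChar (N := ringChar F) |>.map_zero_eq_one] at h2
      exact ZMod.injective_stdAddChar h2
    obtain ⟨y, hy⟩ := FiniteField.trace_to_zmod_nondegenerate F ha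
    exact hy (h1 y)
  · intro σ x
    rw [hψ, hψ]
    congr 1
    have h1 : ∀ c : ZMod (ringChar F), σ (algebraMap (ZMod (ringChar F)) F c) = algebraMap (ZMod (ringChar F)) F c := by
      intro c
      obtain ⟨n, rfl⟩ := ZMod.intCast_surjective c
      rw [map_intCast, map_intCast]
    exact Algebra.trace_eq_of_algEquiv (AlgEquiv.ofRingEquiv (f := σ) h1) x
  · intro x
    rw [← AddChar.map_nsmul_eq_pow, nsmul_eq_mul, CharP.cast_eq_zero, zero_mul]
    exact AddChar.map_zero_eq_one _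

/-! ### The representation -/

variable (ψ)

/-- the unipotent elements -/
noncomputable def Te (t : F) : (F → ℂ) ≃ₗ[ℂ] (F → ℂ) :=
  LinearEquiv.ofLinearMap (Tl ψ t) (Tl ψ (-t)) (by rw [← Tl_add, add_neg_cancel, Tl_zero])
    (by rw [← Tl_add, neg_add_cancel, Tl_zero])

open Classical in
/-- the torus -/
noncomputable def Ta (a : F) : (F → ℂ) ≃ₗ[ℂ] (F → ℂ) :=
  if h : a = 0 then 1 else
    LinearEquiv.ofLinearMap (Nl a) (Nl a⁻¹) (by rw [← Nl_mul, mul_inv_cancel₀ h, Nl_one])
      (by rw [← Nl_mul, inv_mul_cancel₀ h, Nl_one])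

theorem Ta_apply {a : F} (h : a ≠ 0) (f : F → ℂ) : Ta a f = Nl a f := by
  unfold Ta
  rw [dif_neg h]
  rfl

theorem Ml_four (h2 : ringChar F ≠ 2) (hψ : ψ.IsPrimitive) : Ml ψ ∘ₗ (Nl (-1) ∘ₗ Ml ψ) = LinearMap.id := by
  have h1 : (-1 : F) ≠ 0 := neg_ne_zero.2 one_ne_zero
  rw [← LinearMap.comp_assoc, Ml_Nl h1, LinearMap.comp_assoc, Ml_Ml h2 hψ, ← Nl_mul, inv_mul_cancel₀ h1, Nl_one]

theorem Ml_four' (h2 : ringChar F ≠ 2) (hψ : ψ.IsPrimitive) : (Nl (-1) ∘ₗ Ml ψ) ∘ₗ Ml ψ = LinearMap.id := by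
  rw [LinearMap.comp_assoc, Ml_Ml h2 hψ, ← Nl_mul, neg_mul_neg, one_mul, Nl_one]

/-- the Fourier transform -/
noncomputable def Me (h2 : ringChar F ≠ 2) (hψ : ψ.IsPrimitive) : (F → ℂ) ≃ₗ[ℂ] (F → ℂ) :=
  LinearEquiv.ofLinearMap (Ml ψ) (Nl (-1) ∘ₗ Ml ψ) (Ml_four ψ h2 hψ) (Ml_four' ψ h2 hψ)

variable {ψ}

theorem Te_apply (t : F) (f : F → ℂ) : Te ψ t f = Tl ψ t f := rfl

theorem Me_apply (h2 : ringChar F ≠ 2) (hψ : ψ.IsPrimitive) (f : F → ℂ) : Me ψ h2 hψ f = Ml ψ f := rfl

/-- **the relations** -/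
theorem rel (h2 : ringChar F ≠ 2) (hψ : ψ.IsPrimitive) : Rel (Te ψ) Ta (Me ψ h2 hψ) (-1 : F) where
  c_ne := neg_ne_zero.2 one_ne_zero
  T_add a b := LinearEquiv.ext fun f => by
    rw [LinearEquiv.mul_apply, Te_apply, Te_apply, Te_apply, Tl_add]
    rfl
  ν_mul r s hr hs := LinearEquiv.ext fun f => by
    rw [LinearEquiv.mul_apply, Ta_apply hs, Ta_apply hr, Ta_apply (mul_ne_zero hr hs), Nl_mul]
    rfl
  ν_T r s hr := LinearEquiv.ext fun f => by
    rw [LinearEquiv.mul_apply, LinearEquiv.mul_apply, Ta_apply hr, Ta_apply hr, Te_apply, Te_apply]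
    exact LinearMap.congr_fun (Nl_Tl r s) f
  m_ν r hr := LinearEquiv.ext fun f => by
    rw [LinearEquiv.mul_apply, LinearEquiv.mul_apply, Ta_apply hr, Ta_apply (inv_ne_zero hr), Me_apply, Me_apply]
    exact LinearMap.congr_fun (Ml_Nl hr) f
  m_m := LinearEquiv.ext fun f => by
    rw [LinearEquiv.mul_apply, Ta_apply (neg_ne_zero.2 one_ne_zero), Me_apply, Me_apply]
    exact LinearMap.congr_fun (Ml_Ml h2 hψ) f
  m_T_m a ha := LinearEquiv.ext fun f => by
    simp only [LinearEquiv.mul_apply]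
    rw [Ta_apply (div_ne_zero (neg_ne_zero.2 one_ne_zero) ha), Me_apply, Me_apply, Me_apply, Te_apply, Te_apply, Te_apply]
    exact LinearMap.congr_fun (Ml_Tl_Ml h2 hψ ha) f

/-- **the Weil representation** -/
noncomputable def rho (h2 : ringChar F ≠ 2) (hψ : ψ.IsPrimitive) :
    SpecialLinearGroup (Fin 2) F →* ((F → ℂ) ≃ₗ[ℂ] (F → ℂ)) := (rel h2 hψ).hom

/-- field automorphisms -/
noncomputable def Fe (σ : F ≃+* F) : (F → ℂ) ≃ₗ[ℂ] (F → ℂ) := LinearEquiv.funCongrLeft ℂ ℂ σ.symm.toEquiv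

theorem Fe_apply (σ : F ≃+* F) (f : F → ℂ) (x : F) : Fe σ f x = f (σ.symm x) := rfl

/-- field automorphisms -/
noncomputable def FeHom : (F ≃+* F) →* ((F → ℂ) ≃ₗ[ℂ] (F → ℂ)) where
  toFun := Fe
  map_one' := LinearEquiv.ext fun _ => funext fun _ => rfl
  map_mul' _ _ := LinearEquiv.ext fun _ => funext fun _ => rfl

theorem eta_map (σ : F ≃+* F) (a : F) : eta (σ a) = eta a := by
  have h : quadraticChar F (σ a) = quadraticChar F a := by
    by_cases ha : a = 0
    · rw [ha, map_zero]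
    · have ha' : σ a ≠ 0 := by rwa [Ne, map_eq_zero]
      by_cases hs : IsSquare a
      · rw [(quadraticChar_one_iff_isSquare ha).2 hs, (quadraticChar_one_iff_isSquare ha').2 (hs.map σ)]
      · rw [quadraticChar_neg_one_iff_not_isSquare.2 hs, quadraticChar_neg_one_iff_not_isSquare.2]
        intro h
        apply hs
        have := h.map σ.symm
        rwa [RingEquiv.symm_apply_apply] at this
  unfold eta
  rw [h]

theorem Fe_Te (hinv : ∀ (σ : F ≃+* F) x, ψ (σ x) = ψ x) (σ : F ≃+* F) (t : F) : Fe σ * Te ψ t = Te ψ (σ t) * Fe σ := by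
  refine LinearEquiv.ext fun f => funext fun x => ?_
  rw [LinearEquiv.mul_apply, LinearEquiv.mul_apply, Fe_apply, Te_apply, Te_apply, Tl_apply, Tl_apply, Fe_apply]
  congr 1
  rw [← hinv σ, map_mul, map_pow, RingEquiv.apply_symm_apply]

theorem Fe_Ta (σ : F ≃+* F) {a : F} (ha : a ≠ 0) : Fe σ * Ta a = Ta (σ a) * Fe σ := by
  refine LinearEquiv.ext fun f => funext fun x => ?_
  rw [LinearEquiv.mul_apply, LinearEquiv.mul_apply, Fe_apply, Ta_apply ha, Ta_apply (by rwa [Ne, map_eq_zero]), Nl_apply,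
    Nl_apply, Fe_apply, eta_map, map_mul, RingEquiv.symm_apply_apply]

theorem Fe_Me (h2 : ringChar F ≠ 2) (hψ : ψ.IsPrimitive) (hinv : ∀ (σ : F ≃+* F) x, ψ (σ x) = ψ x) (σ : F ≃+* F) :
    Fe σ * Me ψ h2 hψ = Me ψ h2 hψ * Fe σ := by
  refine LinearEquiv.ext fun f => funext fun x => ?_
  rw [LinearEquiv.mul_apply, LinearEquiv.mul_apply, Fe_apply, Me_apply, Me_apply, Ml_apply, Ml_apply]
  congr 1
  rw [← Equiv.sum_comp σ.symm.toEquiv fun y => ψ (2 * σ.symm x * y) * f y]
  refine Finset.sum_congr rfl fun y _ => ?_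
  rw [Fe_apply]
  show ψ (2 * σ.symm x * σ.symm y) * f (σ.symm y) = _
  have e : σ (2 * σ.symm x * σ.symm y) = 2 * x * y := by
    rw [map_mul, map_mul, RingEquiv.apply_symm_apply, RingEquiv.apply_symm_apply, map_ofNat]
  rw [← hinv σ (2 * σ.symm x * σ.symm y), e]

/-- the field automorphism on `SL₂(F)` -/
theorem Fe_rho (h2 : ringChar F ≠ 2) (hψ : ψ.IsPrimitive) (hinv : ∀ (σ : F ≃+* F) x, ψ (σ x) = ψ x) (σ : F ≃+* F)
    (g g' : SpecialLinearGroup (Fin 2) F) (hg : ∀ i j, g'.1 i j = σ (g.1 i j)) :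
    Fe σ * rho h2 hψ g = rho h2 hψ g' * Fe σ := by
  have hd := det_eq g
  show Fe σ * Phi (Te ψ) Ta (Me ψ h2 hψ) (-1 : F) g = Phi (Te ψ) Ta (Me ψ h2 hψ) (-1 : F) g' * Fe σ
  by_cases h : g.1 1 0 = 0
  · have h' : g'.1 1 0 = 0 := by rw [hg, h, map_zero]
    have h0 : g.1 0 0 ≠ 0 := by
      intro h0
      rw [h, h0] at hd
      simp at hd
    rw [Phi_of_eq h, Phi_of_eq h', hg, hg, ← mul_assoc, Fe_Ta σ h0, mul_assoc, Fe_Te hinv, map_div₀, mul_assoc]
  · have h' : g'.1 1 0 ≠ 0 := by rwa [hg, Ne, map_eq_zero]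
    have h0 : 1 / (-1 * g.1 1 0) ≠ 0 := one_div_ne_zero (mul_ne_zero (neg_ne_zero.2 one_ne_zero) h)
    have e1 : σ (1 / (-1 * g.1 1 0)) = 1 / (-1 * g'.1 1 0) := by
      rw [map_div₀, map_one, map_mul, map_neg, map_one, hg]
    rw [Phi_of_ne h, Phi_of_ne h']
    calc Fe σ * (Te ψ (g.1 0 0 / g.1 1 0) * Ta (1 / (-1 * g.1 1 0)) * Me ψ h2 hψ * Te ψ (g.1 1 1 / g.1 1 0))
        = (Fe σ * Te ψ (g.1 0 0 / g.1 1 0)) * Ta (1 / (-1 * g.1 1 0)) * Me ψ h2 hψ * Te ψ (g.1 1 1 / g.1 1 0) := by group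
      _ = Te ψ (σ (g.1 0 0 / g.1 1 0)) * (Fe σ * Ta (1 / (-1 * g.1 1 0))) * Me ψ h2 hψ * Te ψ (g.1 1 1 / g.1 1 0) := by
          rw [Fe_Te hinv]
          group
      _ = Te ψ (σ (g.1 0 0 / g.1 1 0)) * Ta (σ (1 / (-1 * g.1 1 0))) * (Fe σ * Me ψ h2 hψ) * Te ψ (g.1 1 1 / g.1 1 0) := by
          rw [Fe_Ta σ h0]
          group
      _ = Te ψ (σ (g.1 0 0 / g.1 1 0)) * Ta (σ (1 / (-1 * g.1 1 0))) * Me ψ h2 hψ * (Fe σ * Te ψ (g.1 1 1 / g.1 1 0)) := by
          rw [Fe_Me h2 hψ hinv]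
          group
      _ = _ := by
          rw [Fe_Te hinv, e1, map_div₀, map_div₀, ← hg, ← hg, ← hg]
          group

/-! ### Rationality -/

/-- commuting with a Galois map on the values -/
def Rat (τ : ℂ ≃+* ℂ) (A : (F → ℂ) ≃ₗ[ℂ] (F → ℂ)) : Prop := ∀ f : F → ℂ, A (fun x => τ (f x)) = fun x => τ (A f x)

theorem Rat.mul {τ : ℂ ≃+* ℂ} {A B : (F → ℂ) ≃ₗ[ℂ] (F → ℂ)} (hA : Rat τ A) (hB : Rat τ B) : Rat τ (A * B) := by
  intro f
  rw [LinearEquiv.mul_apply, hB, hA]
  rfl

theorem Rat.trace {τ : ℂ ≃+* ℂ} {A : (F → ℂ) ≃ₗ[ℂ] (F → ℂ)} (hA : Rat τ A) :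
    τ (LinearMap.trace ℂ (F → ℂ) A) = LinearMap.trace ℂ (F → ℂ) A := by
  have h : LinearMap.trace ℂ (F → ℂ) A = ∑ x : F, A (Pi.single x 1) x := by
    rw [LinearMap.trace_eq_matrix_trace ℂ (Pi.basisFun ℂ F), Matrix.trace]
    refine Finset.sum_congr rfl fun x _ => ?_
    rw [Matrix.diag_apply, LinearMap.toMatrix_apply, Pi.basisFun_apply, Pi.basisFun_repr]
    rfl
  rw [h, map_sum]
  refine Finset.sum_congr rfl fun x _ => ?_
  have h1 := congrFun (hA (Pi.single x 1)) x
  have h3 : (fun y => τ ((Pi.single x (1 : ℂ) : F → ℂ) y)) = Pi.single x 1 := by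
    funext y
    by_cases hy : y = x
    · subst hy
      rw [Pi.single_eq_same, map_one]
    · rw [Pi.single_eq_of_ne hy, map_zero]
  rw [h3] at h1
  exact h1.symm

theorem rat_eta (τ : ℂ ≃+* ℂ) (a : F) : τ (eta a) = eta a := by
  unfold eta
  exact map_intCast τ _

theorem rat_gs {τ : ℂ ≃+* ℂ} (hτ : ∀ x, τ (ψ x) = ψ x) : τ (gs ψ) = gs ψ := by
  rw [gs_eq, map_sum]
  exact Finset.sum_congr rfl fun c _ => by rw [map_mul, rat_eta, hτ]

theorem rat_Te {τ : ℂ ≃+* ℂ} (hτ : ∀ x, τ (ψ x) = ψ x) (t : F) : Rat τ (Te ψ t) := by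
  intro f
  funext x
  rw [Te_apply, Te_apply, Tl_apply, Tl_apply, map_mul τ, hτ]

theorem rat_Ta (τ : ℂ ≃+* ℂ) (a : F) : Rat τ (Ta a) := by
  intro f
  by_cases ha : a = 0
  · unfold Ta
    rw [dif_pos ha]
    rfl
  · funext x
    rw [Ta_apply ha, Ta_apply ha, Nl_apply, Nl_apply, map_mul, rat_eta]

theorem rat_Me (h2 : ringChar F ≠ 2) (hψ : ψ.IsPrimitive) {τ : ℂ ≃+* ℂ} (hτ : ∀ x, τ (ψ x) = ψ x) :
    Rat τ (Me ψ h2 hψ) := by
  intro f
  funext x
  rw [Me_apply, Me_apply, Ml_apply, Ml_apply, map_mul, map_div₀, map_natCast, rat_gs hτ, map_sum]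
  congr 1
  exact Finset.sum_congr rfl fun y _ => by rw [map_mul τ, hτ]

theorem rat_rho (h2 : ringChar F ≠ 2) (hψ : ψ.IsPrimitive) {τ : ℂ ≃+* ℂ} (hτ : ∀ x, τ (ψ x) = ψ x)
    (g : SpecialLinearGroup (Fin 2) F) : Rat τ (rho h2 hψ g) := by
  show Rat τ (Phi (Te ψ) Ta (Me ψ h2 hψ) (-1 : F) g)
  by_cases h : g.1 1 0 = 0
  · rw [Phi_of_eq h]
    exact (rat_Ta τ _).mul (rat_Te hτ _)
  · rw [Phi_of_ne h]
    exact (((rat_Te hτ _).mul (rat_Ta τ _)).mul (rat_Me h2 hψ hτ)).mul (rat_Te hτ _)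

theorem rat_Fe (τ : ℂ ≃+* ℂ) (σ : F ≃+* F) : Rat τ (Fe σ) := fun _ => rfl

end Cfsg.Agent.H587.CY
end

-- part: H587/CY/WeilIrr
section
/-!
# S4829: the part of the Weil representation fixed by `-1` (helper587)

* `Vp` : the functions fixed by `-1`; `rp` : the representation of `SL₂(F) ⋊ Aut(F)` on it.
* `irr` : it is irreducible for `SL₂(F)`.
* `trace_te` : the trace of the unipotent elements.
-/

set_option autoImplicit false
set_option linter.unusedSectionVars false

namespace Cfsg.Agent.H587.CY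

open Matrix Cfsg.Agent.ONan.SL2Hom
open Cfsg.Agent.ClassicalGeometry.AutPSL.Auto

universe u

variable {F : Type u} [Field F] [Fintype F] [DecidableEq F]

/-- the functions fixed by `-1` -/
noncomputable def Vp (F : Type u) [Field F] [Fintype F] [DecidableEq F] : Submodule ℂ (F → ℂ) :=
  LinearMap.eqLocus (Ta (-1 : F)).toLinearMap LinearMap.id

theorem mem_Vp {f : F → ℂ} : f ∈ Vp F ↔ Ta (-1 : F) f = f := Iff.rfl

theorem neg_one_ne : (-1 : F) ≠ 0 := neg_ne_zero.2 one_ne_zero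

theorem mem_Vp' {f : F → ℂ} : f ∈ Vp F ↔ ∀ x, eta (-1 : F) * f (-x) = f x := by
  rw [mem_Vp, Ta_apply neg_one_ne, funext_iff]
  refine forall_congr' fun x => ?_
  rw [Nl_apply, neg_one_mul]

theorem Ta_sq : Ta (-1 : F) * Ta (-1 : F) = 1 := by
  refine LinearEquiv.ext fun f => ?_
  rw [LinearEquiv.mul_apply, Ta_apply neg_one_ne, Ta_apply neg_one_ne]
  show (Nl (-1 : F) ∘ₗ Nl (-1 : F)) f = f
  rw [← Nl_mul, neg_mul_neg, one_mul, Nl_one]
  rfl

/-- the operators commuting with `-1` -/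
noncomputable def Cen (F : Type u) [Field F] [Fintype F] [DecidableEq F] : Subgroup ((F → ℂ) ≃ₗ[ℂ] (F → ℂ)) :=
  Subgroup.centralizer {Ta (-1 : F)}

theorem mem_Cen {A : (F → ℂ) ≃ₗ[ℂ] (F → ℂ)} : A ∈ Cen F ↔ A * Ta (-1) = Ta (-1) * A := by
  rw [Cen, Subgroup.mem_centralizer_singleton_iff]

theorem maps_Vp {A : (F → ℂ) ≃ₗ[ℂ] (F → ℂ)} (hA : A ∈ Cen F) {f : F → ℂ} (hf : f ∈ Vp F) : A f ∈ Vp F := by
  rw [mem_Vp] at hf ⊢
  have h := congrArg (fun B : (F → ℂ) ≃ₗ[ℂ] (F → ℂ) => B f) (mem_Cen.1 hA)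
  simp only [LinearEquiv.mul_apply] at h
  rw [← h, hf]

/-- restriction to `Vp` -/
noncomputable def resV : Cen F →* Module.End ℂ (Vp F) where
  toFun A := (A : (F → ℂ) ≃ₗ[ℂ] (F → ℂ)).toLinearMap.restrict fun _ hf => maps_Vp A.2 hf
  map_one' := LinearMap.ext fun _ => Subtype.ext rfl
  map_mul' _ _ := LinearMap.ext fun _ => Subtype.ext rfl

theorem resV_apply (A : Cen F) (f : Vp F) : ((resV A f : Vp F) : F → ℂ) = (A : (F → ℂ) ≃ₗ[ℂ] (F → ℂ)) f := rfl

theorem resV_neg (h : Ta (-1 : F) ∈ Cen F) : resV ⟨Ta (-1 : F), h⟩ = 1 := by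
  refine LinearMap.ext fun f => Subtype.ext ?_
  rw [resV_apply]
  exact mem_Vp.1 f.2

/-- the trace on `Vp` -/
theorem trace_resV (A : Cen F) : LinearMap.trace ℂ (Vp F) (resV A) =
    (LinearMap.trace ℂ (F → ℂ) (A : (F → ℂ) ≃ₗ[ℂ] (F → ℂ)) +
      LinearMap.trace ℂ (F → ℂ) ((A : (F → ℂ) ≃ₗ[ℂ] (F → ℂ)) * Ta (-1) : (F → ℂ) ≃ₗ[ℂ] (F → ℂ))) / 2 := by
  set B : (F → ℂ) →ₗ[ℂ] (F → ℂ) := (2 : ℂ)⁻¹ • (((A : (F → ℂ) ≃ₗ[ℂ] (F → ℂ)) : (F → ℂ) →ₗ[ℂ] (F → ℂ)) +
    (((A : (F → ℂ) ≃ₗ[ℂ] (F → ℂ)) * Ta (-1) : (F → ℂ) ≃ₗ[ℂ] (F → ℂ)) : (F → ℂ) →ₗ[ℂ] (F → ℂ))) with hB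
  have hBa : ∀ f, B f = (2 : ℂ)⁻¹ • ((A : (F → ℂ) ≃ₗ[ℂ] (F → ℂ)) f + (A : (F → ℂ) ≃ₗ[ℂ] (F → ℂ)) (Ta (-1) f)) :=
    fun f => rfl
  have hTT : ∀ f : F → ℂ, Ta (-1 : F) (Ta (-1 : F) f) = f := fun f => by
    rw [← LinearEquiv.mul_apply, Ta_sq]
    rfl
  have h1 : ∀ f, B f ∈ Vp F := by
    intro f
    rw [hBa, ← map_add, ← map_smul]
    apply maps_Vp A.2
    rw [mem_Vp, map_smul, map_add, hTT, add_comm]
  have h2 : ∀ f ∈ Vp F, B f = (A : (F → ℂ) ≃ₗ[ℂ] (F → ℂ)) f := by
    intro f hf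
    rw [hBa, mem_Vp.1 hf, ← two_smul ℂ, smul_smul, inv_mul_cancel₀ two_ne_zero, one_smul]
  have h3 : B.restrict (fun x _ => h1 x) = resV A := by
    refine LinearMap.ext fun f => Subtype.ext ?_
    rw [resV_apply]
    exact h2 f f.2
  rw [← h3, LinearMap.trace_restrict_eq_of_forall_mem (Vp F) B h1 (fun x _ => h1 x), hB, map_smul, map_add, smul_eq_mul]
  ring

/-- the trace in coordinates -/
theorem trace_eq (A : (F → ℂ) ≃ₗ[ℂ] (F → ℂ)) :
    LinearMap.trace ℂ (F → ℂ) A = ∑ x : F, A (Pi.single x 1) x := by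
  rw [LinearMap.trace_eq_matrix_trace ℂ (Pi.basisFun ℂ F), Matrix.trace]
  refine Finset.sum_congr rfl fun x _ => ?_
  rw [Matrix.diag_apply, LinearMap.toMatrix_apply, Pi.basisFun_apply, Pi.basisFun_repr]
  rfl

variable {ψ : AddChar F ℂ}

theorem trace_Te (h2 : ringChar F ≠ 2) (hψ : ψ.IsPrimitive) (t : F) :
    LinearMap.trace ℂ (F → ℂ) (Te ψ t) = if t = 0 then (Fintype.card F : ℂ) else eta t * gs ψ := by
  rw [trace_eq]
  have h1 : ∀ x : F, Te ψ t (Pi.single x 1) x = ψ (t * x ^ 2) := by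
    intro x
    rw [Te_apply, Tl_apply, Pi.single_eq_same, mul_one]
  rw [Finset.sum_congr rfl fun x _ => h1 x]
  split_ifs with h
  · subst h
    simp [AddChar.map_zero_eq_one]
  · exact sum_sq h2 hψ h

theorem trace_Te_neg (h2 : ringChar F ≠ 2) (t : F) :
    LinearMap.trace ℂ (F → ℂ) (Te ψ t * Ta (-1) : (F → ℂ) ≃ₗ[ℂ] (F → ℂ)) = eta (-1 : F) := by
  have h20 : (2 : F) ≠ 0 := Ring.two_ne_zero h2
  rw [trace_eq]
  have h1 : ∀ x : F, (Te ψ t * Ta (-1) : (F → ℂ) ≃ₗ[ℂ] (F → ℂ)) (Pi.single x 1) x = if x = 0 then eta (-1 : F) else 0 := by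
    intro x
    rw [LinearEquiv.mul_apply, Te_apply, Tl_apply, Ta_apply neg_one_ne, Nl_apply, neg_one_mul]
    split_ifs with h
    · subst h
      rw [neg_zero, Pi.single_eq_same, mul_one]
      simp [AddChar.map_zero_eq_one]
    · rw [Pi.single_eq_of_ne, mul_zero, mul_zero]
      intro h3
      apply h
      have h4 : 2 * x = 0 := by linear_combination -h3
      exact (mul_eq_zero.1 h4).resolve_left h20
  rw [Finset.sum_congr rfl fun x _ => h1 x, Finset.sum_ite_eq' Finset.univ (0 : F), if_pos (Finset.mem_univ _)]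

/-! ### Irreducibility -/

/-- the function of weight `y` -/
noncomputable def ev (y : F) : F → ℂ := Pi.single y 1 + eta (-1 : F) • Pi.single (-y) 1

theorem ev_apply (y x : F) : ev y x = (if x = y then 1 else 0) + eta (-1 : F) * (if x = -y then 1 else 0) := by
  unfold ev
  simp only [Pi.add_apply, Pi.smul_apply, smul_eq_mul, Pi.single_apply]

theorem sum_ev {f : F → ℂ} (hf : f ∈ Vp F) : ∑ y : F, f y • ev y = (2 : ℂ) • f := by
  funext x
  rw [Finset.sum_apply]
  have h1 : ∀ y, (f y • ev y) x = (if x = y then f y else 0) + (if y = -x then eta (-1 : F) * f y else 0) := by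
    intro y
    rw [Pi.smul_apply, ev_apply, smul_eq_mul, mul_add]
    have e : (x = -y) ↔ (y = -x) := by
      rw [eq_neg_iff_add_eq_zero, eq_neg_iff_add_eq_zero, add_comm]
    simp only [e]
    split_ifs <;> ring
  rw [Finset.sum_congr rfl fun y _ => h1 y, Finset.sum_add_distrib, Finset.sum_ite_eq Finset.univ x,
    if_pos (Finset.mem_univ _), Finset.sum_ite_eq' Finset.univ (-x), if_pos (Finset.mem_univ _),
    (mem_Vp'.1 hf) x, Pi.smul_apply, smul_eq_mul]
  ring

theorem sq_eq_iff {x y : F} : x ^ 2 = y ^ 2 ↔ x = y ∨ x = -y := sq_eq_sq_iff_eq_or_eq_neg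

/-- the weight projection -/
theorem proj_mem (h2 : ringChar F ≠ 2) (hψ : ψ.IsPrimitive) {W : Submodule ℂ (F → ℂ)} (hWV : W ≤ Vp F)
    (hT : ∀ t, ∀ f ∈ W, Te ψ t f ∈ W) {f : F → ℂ} (hf : f ∈ W) {y : F} (hy : f y ≠ 0) : ev y ∈ W := by
  have h20 : (2 : F) ≠ 0 := Ring.two_ne_zero h2
  have hq : (Fintype.card F : ℂ) ≠ 0 := Nat.cast_ne_zero.2 Fintype.card_ne_zero
  have h1 : ∑ t : F, ψ (-(t * y ^ 2)) • Te ψ t f ∈ W := W.sum_mem fun t _ => W.smul_mem _ (hT t f hf)
  have h3 : ∑ t : F, ψ (-(t * y ^ 2)) • Te ψ t f = fun x => if x ^ 2 = y ^ 2 then (Fintype.card F : ℂ) * f x else 0 := by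
    funext x
    rw [Finset.sum_apply]
    have h4 : ∀ t : F, (ψ (-(t * y ^ 2)) • Te ψ t f) x = ψ ((x ^ 2 - y ^ 2) * t) * f x := by
      intro t
      rw [Pi.smul_apply, Te_apply, Tl_apply, smul_eq_mul, ← mul_assoc, ← AddChar.map_add_eq_mul]
      congr 2
      ring
    rw [Finset.sum_congr rfl fun t _ => h4 t, ← Finset.sum_mul, sum_psi hψ]
    simp only [sub_eq_zero]
    split_ifs
    · rfl
    · rw [zero_mul]
  rw [h3] at h1
  have h5 : (fun x => if x ^ 2 = y ^ 2 then (Fintype.card F : ℂ) * f x else 0) =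
      (if y = 0 then (Fintype.card F : ℂ) * f y / 2 else Fintype.card F * f y) • ev y := by
    have hfy := mem_Vp'.1 (hWV hf)
    funext x
    rw [Pi.smul_apply, ev_apply, smul_eq_mul]
    by_cases h0 : y = 0
    · subst h0
      have he : eta (-1 : F) = 1 := by
        have h6 := hfy 0
        rw [neg_zero] at h6
        exact mul_right_cancel₀ hy (h6.trans (one_mul _).symm)
      rw [if_pos rfl, he, neg_zero]
      by_cases hx : x = 0
      · subst hx
        simp only [if_true]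
        ring
      · rw [if_neg hx, if_neg]
        · ring
        · intro h6
          apply hx
          rw [zero_pow two_ne_zero] at h6
          exact pow_eq_zero_iff two_ne_zero |>.1 h6
    · rw [if_neg h0]
      have hne : y ≠ -y := by
        intro h6
        apply h0
        have h7 : 2 * y = 0 := by linear_combination h6
        exact (mul_eq_zero.1 h7).resolve_left h20
      by_cases hx : x = y
      · subst hx
        rw [if_pos rfl, if_pos rfl, if_neg hne]
        ring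
      · by_cases hx' : x = -y
        · subst hx'
          rw [if_pos (neg_sq y), if_neg hx, if_pos rfl]
          have h6 := hfy (-y)
          rw [neg_neg] at h6
          rw [← h6]
          ring
        · rw [if_neg, if_neg hx, if_neg hx']
          · ring
          · intro h6
            rcases sq_eq_iff.1 h6 with h7 | h7
            · exact hx h7
            · exact hx' h7
  rw [h5] at h1
  have h6 : (if y = 0 then (Fintype.card F : ℂ) * f y / 2 else Fintype.card F * f y) ≠ 0 := by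
    split_ifs
    · exact div_ne_zero (mul_ne_zero hq hy) two_ne_zero
    · exact mul_ne_zero hq hy
  exact (Submodule.smul_mem_iff W h6).1 h1

/-- **irreducibility of `Vp`** -/
theorem irr_Vp (h2 : ringChar F ≠ 2) (hψ : ψ.IsPrimitive) {W : Submodule ℂ (F → ℂ)} (hWV : W ≤ Vp F)
    (hW : W ≠ ⊥) (hT : ∀ t, ∀ f ∈ W, Te ψ t f ∈ W) (hN : ∀ a : F, a ≠ 0 → ∀ f ∈ W, Ta a f ∈ W)
    (hM : ∀ f ∈ W, Me ψ h2 hψ f ∈ W) : W = Vp F := by
  have hq : (Fintype.card F : ℂ) ≠ 0 := Nat.cast_ne_zero.2 Fintype.card_ne_zero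
  have hg := gs_ne h2 hψ
  obtain ⟨f, hf, hf0⟩ := Submodule.exists_mem_ne_zero_of_ne_bot hW
  -- a function with a nonzero value outside 0
  obtain ⟨f1, hf1, y, hy, hy1⟩ : ∃ f1 ∈ W, ∃ y : F, y ≠ 0 ∧ f1 y ≠ 0 := by
    by_contra hcon
    push Not at hcon
    have h0 : f 0 ≠ 0 := by
      intro h0
      apply hf0
      funext x
      by_cases hx : x = 0
      · rw [hx, h0]
        rfl
      · exact hcon f hf x hx
    have h1 := hcon _ (hM f hf) 1 one_ne_zero
    rw [Me_apply, Ml_apply, Finset.sum_eq_single (0 : F)] at h1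
    · rw [mul_zero, AddChar.map_zero_eq_one, one_mul] at h1
      exact mul_ne_zero (div_ne_zero hg hq) h0 h1
    · intro y _ hy
      rw [hcon f hf y hy, mul_zero]
    · intro h
      exact absurd (Finset.mem_univ _) h
  have hev : ∀ x : F, x ≠ 0 → ev x ∈ W := by
    intro x hx
    have h1 := proj_mem h2 hψ hWV hT hf1 hy1
    have h3 := hN (y / x) (div_ne_zero hy hx) _ h1
    have h4 : Ta (y / x) (ev y) = eta (y / x) • ev x := by
      rw [Ta_apply (div_ne_zero hy hx)]
      funext z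
      rw [Nl_apply, Pi.smul_apply, ev_apply, ev_apply, smul_eq_mul]
      have e1 : y / x * z = y ↔ z = x := by
        constructor
        · intro h
          field_simp at h
          exact h
        · rintro rfl
          field_simp
      have e2 : y / x * z = -y ↔ z = -x := by
        constructor
        · intro h
          field_simp at h
          linear_combination h
        · rintro rfl
          field_simp
      simp only [e1, e2]
    rw [h4] at h3
    exact (Submodule.smul_mem_iff W (eta_ne (div_ne_zero hy hx))).1 h3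
  have hev0 : ev (0 : F) ∈ W := by
    rcases eta_cases (neg_one_ne (F := F)) with he | he
    · have h1 := hM _ (hev 1 one_ne_zero)
      have h3 : Me ψ h2 hψ (ev (1 : F)) 0 ≠ 0 := by
        rw [Me_apply, Ml_apply]
        have h4 : ∑ y : F, ψ (2 * 0 * y) * ev (1 : F) y = 2 := by
          have h5 : ∀ y : F, ψ (2 * 0 * y) * ev (1 : F) y = (if y = 1 then (1 : ℂ) else 0) + (if y = -1 then 1 else 0) := by
            intro y
            rw [mul_zero, zero_mul, AddChar.map_zero_eq_one, one_mul, ev_apply, he, one_mul]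
          rw [Finset.sum_congr rfl fun y _ => h5 y, Finset.sum_add_distrib, Finset.sum_ite_eq' Finset.univ (1 : F),
            if_pos (Finset.mem_univ _), Finset.sum_ite_eq' Finset.univ (-1 : F), if_pos (Finset.mem_univ _)]
          norm_num
        rw [h4]
        exact mul_ne_zero (div_ne_zero hg hq) two_ne_zero
      exact proj_mem h2 hψ hWV hT h1 h3
    · have h1 : ev (0 : F) = 0 := by
        funext x
        rw [ev_apply, he, neg_zero, Pi.zero_apply]
        split_ifs <;> ring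
      rw [h1]
      exact W.zero_mem
  refine le_antisymm hWV fun g hgV => ?_
  have h1 : (2 : ℂ) • g ∈ W := by
    rw [← sum_ev hgV]
    refine W.sum_mem fun y _ => W.smul_mem _ ?_
    by_cases hy0 : y = 0
    · rw [hy0]
      exact hev0
    · exact hev y hy0
  exact (Submodule.smul_mem_iff W two_ne_zero).1 h1

end Cfsg.Agent.H587.CY
end

-- part: H587/CY/Sigma
section
/-!
# S4829: the Weil character of `PΣL₂(q)`, `q` odd (helper587)

* `exists_desc` : the character `χ₀` of the subgroup `X₀ = PΣL₂(F)` of `Aut(PSL₂(F))`.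
-/

set_option autoImplicit false
set_option linter.unusedSectionVars false

namespace Cfsg.Agent.H587.CY

open Matrix Cfsg.Agent.ONan.SL2Hom Cfsg
open Cfsg.Agent.ClassicalGeometry.AutPSL.Root
open Cfsg.Agent.ClassicalGeometry.AutPSL.Auto
open Cfsg.Agent.ClassicalGeometry.AutPSL.Main
open Cfsg.Agent.H199.PslAut

universe u

/-- descending a homomorphism to the range of another one -/
theorem exists_range_lift {G H M : Type*} [Group G] [Group H] [Monoid M] (f : G →* H) (g : G →* M)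
    (h : ∀ x, f x = 1 → g x = 1) : ∃ k : f.range →* M, ∀ x, k ⟨f x, x, rfl⟩ = g x := by
  have hk : f.ker ≤ g.ker := fun x hx => h x hx
  refine ⟨(QuotientGroup.lift f.ker g hk).comp (QuotientGroup.quotientKerEquivRange f).symm.toMonoidHom,
    fun x => ?_⟩
  have e : (QuotientGroup.quotientKerEquivRange f).symm ⟨f x, x, rfl⟩ = QuotientGroup.mk x := by
    rw [MulEquiv.symm_apply_eq]
    rfl
  show QuotientGroup.lift f.ker g hk ((QuotientGroup.quotientKerEquivRange f).symm ⟨f x, x, rfl⟩) = g x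
  rw [e]
  rfl

variable {F : Type u} [Field F] [Fintype F] [DecidableEq F] {ψ : AddChar F ℂ}

/-- `PSL₂(F)` -/
abbrev PS (F : Type u) [Field F] := Matrix.ProjectiveSpecialLinearGroup (Fin 2) F

/-- the semidirect product -/
abbrev Xt (F : Type u) [Field F] := SpecialLinearGroup (Fin 2) F ⋊[fld] (F ≃+* F)

theorem rho_neg (h2 : ringChar F ≠ 2) (hψ : ψ.IsPrimitive) :
    rho h2 hψ (nM (-1 : F) neg_one_ne) = Ta (-1 : F) := (rel h2 hψ).hom_nM (-1) neg_one_ne

theorem nM_comm (g : SpecialLinearGroup (Fin 2) F) : g * nM (-1 : F) neg_one_ne = nM (-1 : F) neg_one_ne * g := by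
  have h1 : (-1 : F)⁻¹ = -1 := by rw [inv_neg, inv_one]
  apply ext' <;> rw [Cfsg.Agent.ONan.SL2Hom.mul_apply', Cfsg.Agent.ONan.SL2Hom.mul_apply'] <;>
    simp only [nM_00, nM_01, nM_10, nM_11, h1] <;> ring

theorem rho_mem (h2 : ringChar F ≠ 2) (hψ : ψ.IsPrimitive) (g : SpecialLinearGroup (Fin 2) F) :
    rho h2 hψ g ∈ Cen F := by
  rw [mem_Cen, ← rho_neg h2 hψ, ← map_mul, ← map_mul, nM_comm]

theorem Fe_mem (σ : F ≃+* F) : Fe σ ∈ Cen F := by
  rw [mem_Cen, Fe_Ta σ neg_one_ne, map_neg, map_one]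

/-- the representation of the semidirect product -/
noncomputable def rt (h2 : ringChar F ≠ 2) (hψ : ψ.IsPrimitive) (hinv : ∀ (σ : F ≃+* F) x, ψ (σ x) = ψ x) :
    Xt F →* Cen F :=
  SemidirectProduct.lift ((rho h2 hψ).codRestrict (Cen F) (rho_mem h2 hψ)) (FeHom.codRestrict (Cen F) Fe_mem) (by
    intro σ
    refine MonoidHom.ext fun g => Subtype.ext ?_
    show rho h2 hψ (fld σ g) = Fe σ * rho h2 hψ g * (Fe σ)⁻¹
    rw [eq_mul_inv_iff_mul_eq]
    exact (Fe_rho h2 hψ hinv σ g (fld σ g) fun i j => rfl).symm)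

theorem rt_apply (h2 : ringChar F ≠ 2) (hψ : ψ.IsPrimitive) (hinv : ∀ (σ : F ≃+* F) x, ψ (σ x) = ψ x) (x : Xt F) :
    ((rt h2 hψ hinv x : Cen F) : (F → ℂ) ≃ₗ[ℂ] (F → ℂ)) = rho h2 hψ x.left * Fe x.right := rfl

/-- conjugation and field automorphisms -/
noncomputable def pt (F : Type u) [Field F] : Xt F →* MulAut (PS F) :=
  SemidirectProduct.lift ((MulAut.conj : PS F →* MulAut (PS F)).comp pr) (phi 2 F) (by
    intro σ
    refine MonoidHom.ext fun g => ?_
    show MulAut.conj (pr (fld σ g)) = phi 2 F σ * MulAut.conj (pr g) * (phi 2 F σ)⁻¹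
    rw [← phi_pr]
    refine MulEquiv.ext fun x => ?_
    rw [MulAut.mul_apply, MulAut.mul_apply, MulAut.conj_apply, MulAut.conj_apply, map_mul, map_mul, map_inv,
      MulAut.apply_inv_self])

theorem pt_apply (x : Xt F) : pt F x = MulAut.conj (pr x.left) * phi 2 F x.right := rfl

theorem exists_square_split (x : Xt F) (h : pt F x = 1) : x.right = 1 ∧ (x.left = 1 ∨ x.left = nM (-1 : F) neg_one_ne) := by
  rw [pt_apply, ← Psi_coe] at h
  obtain ⟨⟨v, hv⟩, h1⟩ := Psi_phi_eq (n := 2) le_rfl (τ := 1) (h.trans (map_one (phi 2 F)).symm)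
  refine ⟨h1, ?_⟩
  have e : ∀ i j, x.left.1 i j = (scalar (Fin 2) (v : F)) i j := by
    intro i j
    have := congrArg (fun g : GL (Fin 2) F => (g : Matrix (Fin 2) (Fin 2) F) i j) hv
    exact this
  have e00 : x.left.1 0 0 = v := by rw [e]; simp
  have e01 : x.left.1 0 1 = 0 := by rw [e]; simp
  have e10 : x.left.1 1 0 = 0 := by rw [e]; simp
  have e11 : x.left.1 1 1 = v := by rw [e]; simp
  have hd := det_eq x.left
  rw [e00, e01, e11, zero_mul, sub_zero] at hd
  rcases mul_self_eq_one_iff.1 hd with h0 | h0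
  · left
    apply ext'
    · rw [e00, h0]; rfl
    · rw [e01]; rfl
    · rw [e10]; rfl
    · rw [e11, h0]; rfl
  · right
    apply ext'
    · rw [e00, h0]; rfl
    · rw [e01]; rfl
    · rw [e10]; rfl
    · rw [e11, h0, nM_11, inv_neg, inv_one]

theorem res_one_of_pt (h2 : ringChar F ≠ 2) (hψ : ψ.IsPrimitive) (hinv : ∀ (σ : F ≃+* F) x, ψ (σ x) = ψ x) (x : Xt F)
    (h : pt F x = 1) : resV (rt h2 hψ hinv x) = 1 := by
  obtain ⟨h1, h3⟩ := exists_square_split x h
  have hF : Fe (1 : F ≃+* F) = 1 := FeHom.map_one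
  rcases h3 with h3 | h3
  · have e : rt h2 hψ hinv x = 1 := by
      apply Subtype.ext
      rw [rt_apply, h1, h3, map_one, hF]
      rfl
    rw [e, map_one]
  · have hm : Ta (-1 : F) ∈ Cen F := mem_Cen.2 rfl
    have e : rt h2 hψ hinv x = ⟨Ta (-1 : F), hm⟩ := by
      apply Subtype.ext
      rw [rt_apply, h1, h3, hF, rho_neg, mul_one]
    rw [e, resV_neg]

/-- **the descended representation** -/
theorem exists_desc (h2 : ringChar F ≠ 2) (hψ : ψ.IsPrimitive) (hinv : ∀ (σ : F ≃+* F) x, ψ (σ x) = ψ x) :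
    ∃ R : Representation ℂ (pt F).range (Vp F), ∀ x, R ⟨pt F x, x, rfl⟩ = resV (rt h2 hψ hinv x) :=
  exists_range_lift (pt F) (resV.comp (rt h2 hψ hinv)) (res_one_of_pt h2 hψ hinv)

end Cfsg.Agent.H587.CY
end

-- part: H587/CY/Theta
section
/-!
# S4829: the Weil character of `Aut(PSL₂(q))`, `q` odd (helper587)

* `exists_wit` : a character of `Aut(PSL₂(F))` of degree `q ± 1`, fixed by the Galois maps fixing the `p`-th roots of
  unity, which restricts to `PSL₂(F)` as the sum of two different nontrivial irreducible characters.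
-/

set_option autoImplicit false
set_option linter.unusedSectionVars false

namespace Cfsg.Agent.H587.CY

open Matrix Cfsg.Agent.ONan.SL2Hom Cfsg
open Cfsg.Agent.ClassicalGeometry.AutPSL.Root
open Cfsg.Agent.ClassicalGeometry.AutPSL.Auto
open Cfsg.Agent.ClassicalGeometry.AutPSL.Main
open Cfsg.Agent.H199.PslAut
open Cfsg.Agent.Characters

universe u

section ind

variable {X : Type u} [Group X] [Fintype X]

/-- induction from a subgroup of index two -/
theorem ind_two (H : Subgroup X) {χ : H → ℂ} (hχ : IsClassFunction H χ) {d : X} (hd : d ∉ H)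
    (hcov : ∀ x, x ∉ H → d⁻¹ * x ∈ H) {y : X} (hy : y ∈ H) (hy' : d⁻¹ * y * d ∈ H) :
    indFun H χ y = χ ⟨y, hy⟩ + χ ⟨d⁻¹ * y * d, hy'⟩ := by
  classical
  have hc : ∀ (x : X) (_ : x ∈ H) (z : X) (hz : z ∈ H), extendByZero H χ (x⁻¹ * z * x) = χ ⟨z, hz⟩ := by
    intro x hx z hz
    have hm : x⁻¹ * z * x ∈ H := H.mul_mem (H.mul_mem (H.inv_mem hx) hz) hx
    rw [Core.extendByZero_of_mem H χ hm]
    have h1 := hχ ⟨z, hz⟩ (⟨x, hx⟩ : H)⁻¹
    rw [inv_inv] at h1
    exact h1
  rw [Core.indFun_apply, ← Finset.sum_filter_add_sum_filter_not Finset.univ (fun x : X => x ∈ H)]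
  have e1 : ∑ x ∈ Finset.univ.filter (fun x : X => x ∈ H), extendByZero H χ (x⁻¹ * y * x) = Nat.card H * χ ⟨y, hy⟩ := by
    rw [Finset.sum_congr rfl fun x hx => hc x (Finset.mem_filter.1 hx).2 y hy, Finset.sum_const, nsmul_eq_mul]
    congr 2
    rw [Nat.card_eq_fintype_card, Fintype.card_subtype]
  have e2 : ∑ x ∈ Finset.univ.filter (fun x : X => ¬ x ∈ H), extendByZero H χ (x⁻¹ * y * x) =
      Nat.card H * χ ⟨d⁻¹ * y * d, hy'⟩ := by
    have h1 : ∀ x ∈ Finset.univ.filter (fun x : X => ¬ x ∈ H), extendByZero H χ (x⁻¹ * y * x) = χ ⟨d⁻¹ * y * d, hy'⟩ := by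
      intro x hx
      have h2 := hcov x (Finset.mem_filter.1 hx).2
      have h3 := hc _ h2 _ hy'
      rw [← h3]
      congr 1
      group
    rw [Finset.sum_congr rfl h1, Finset.sum_const, nsmul_eq_mul]
    congr 2
    have h4 : (Finset.univ.filter (fun x : X => ¬ x ∈ H)) = (Finset.univ.filter (fun x : X => x ∈ H)).map
        (Equiv.mulLeft d).toEmbedding := by
      ext x
      simp only [Finset.mem_filter, Finset.mem_univ, true_and, Finset.mem_map, Equiv.coe_toEmbedding, Equiv.coe_mulLeft]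
      constructor
      · intro hx
        exact ⟨d⁻¹ * x, hcov x hx, by group⟩
      · rintro ⟨z, hz, rfl⟩ h5
        apply hd
        have := H.mul_mem h5 (H.inv_mem hz)
        rwa [mul_inv_cancel_right] at this
    rw [h4, Finset.card_map, Nat.card_eq_fintype_card, Fintype.card_subtype]
  rw [e1, e2]
  have h5 : (Nat.card H : ℂ) ≠ 0 := Nat.cast_ne_zero.2 Nat.card_pos.ne'
  field_simp

end ind

variable {F : Type u} [Field F] [Fintype F] [DecidableEq F] {ψ : AddChar F ℂ}

theorem conj_mem (s : PS F) : MulAut.conj s ∈ (pt F).range := by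
  obtain ⟨g, rfl⟩ := pr_surjective s
  refine ⟨SemidirectProduct.inl g, ?_⟩
  rw [pt_apply]
  show MulAut.conj (pr g) * phi 2 F 1 = _
  rw [map_one, mul_one]

/-- `PSL₂(F)` as a subgroup of `PΣL₂(F)` -/
noncomputable def io (F : Type u) [Field F] [Fintype F] [DecidableEq F] : PS F →* (pt F).range :=
  (MulAut.conj : PS F →* MulAut (PS F)).codRestrict _ conj_mem

theorem io_pr (g : SpecialLinearGroup (Fin 2) F) : io F (pr g) = ⟨pt F (SemidirectProduct.inl g), _, rfl⟩ := by
  apply Subtype.ext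
  show MulAut.conj (pr g) = MulAut.conj (pr g) * phi 2 F 1
  rw [map_one, mul_one]

variable (h2 : ringChar F ≠ 2) (hψ : ψ.IsPrimitive) (hinv : ∀ (σ : F ≃+* F) x, ψ (σ x) = ψ x)
  {R : Representation ℂ (pt F).range (Vp F)} (hR : ∀ x, R ⟨pt F x, x, rfl⟩ = resV (rt h2 hψ hinv x))

include hR

theorem R_pr (g : SpecialLinearGroup (Fin 2) F) (f : Vp F) :
    ((R (io F (pr g)) f : Vp F) : F → ℂ) = rho h2 hψ g (f : F → ℂ) := by
  rw [io_pr, hR, resV_apply, rt_apply]
  have hF : Fe (1 : F ≃+* F) = 1 := FeHom.map_one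
  show (rho h2 hψ g * Fe 1 : (F → ℂ) ≃ₗ[ℂ] (F → ℂ)) (f : F → ℂ) = _
  rw [hF, mul_one]

omit hR in
theorem ev_one_mem : ev (1 : F) ∈ Vp F := by
  rw [mem_Vp']
  intro x
  rw [ev_apply, ev_apply]
  have e1 : (-x = 1) ↔ (x = -1) := neg_eq_iff_eq_neg
  have e2 : (-x = -1) ↔ (x = 1) := neg_inj
  simp only [e1, e2]
  have h3 := eta_sq (neg_one_ne (F := F))
  linear_combination (if x = 1 then (1 : ℂ) else 0) * h3

omit hR in
theorem ev_one_ne (h2 : ringChar F ≠ 2) : ev (1 : F) ≠ 0 := by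
  intro h
  have h1 := congrFun h 1
  have h3 : (1 : F) ≠ -1 := by
    intro h4
    have h5 : (2 : F) = 0 := by linear_combination h4
    exact Ring.two_ne_zero h2 h5
  rw [ev_apply, if_pos rfl, if_neg h3, mul_zero, add_zero] at h1
  exact one_ne_zero h1

/-- **the Weil character is irreducible** -/
theorem irr_theta : IsIrrCharacter (PS F) (fun s => R.character (io F s)) := by
  let σ : Representation ℂ (PS F) (Vp F) := MonoidHom.comp R (io F)
  have h0 : (fun s => R.character (io F s)) = Representation.character σ := rfl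
  rw [h0]
  refine Core.isIrrCharacter_of_rep σ ?_
  have hnt : Nontrivial (Subrepresentation σ) := by
    refine ⟨⊥, ⊤, fun h => ?_⟩
    have h1 : (⊥ : Submodule ℂ (Vp F)) = ⊤ := congrArg Subrepresentation.toSubmodule h
    have h3 : (⟨ev (1 : F), ev_one_mem⟩ : Vp F) ∈ (⊥ : Submodule ℂ (Vp F)) := h1 ▸ Submodule.mem_top
    rw [Submodule.mem_bot] at h3
    exact ev_one_ne h2 (congrArg Subtype.val h3)
  refine ⟨fun W => ?_⟩
  by_cases hW : W.toSubmodule = ⊥
  · left
    exact Subrepresentation.toSubmodule_injective hW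
  · right
    apply Subrepresentation.toSubmodule_injective
    show W.toSubmodule = ⊤
    have hinvt : ∀ g : SpecialLinearGroup (Fin 2) F, ∀ f ∈ W.toSubmodule.map (Vp F).subtype,
        rho h2 hψ g f ∈ W.toSubmodule.map (Vp F).subtype := by
      rintro g _ ⟨f, hf, rfl⟩
      refine ⟨σ (pr g) f, W.apply_mem_toSubmodule (pr g) hf, ?_⟩
      exact R_pr h2 hψ hinv hR g f
    have h1 : W.toSubmodule.map (Vp F).subtype = Vp F := by
      refine irr_Vp h2 hψ (Submodule.map_subtype_le _ _) ?_ ?_ ?_ ?_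
      · intro h
        apply hW
        rw [Submodule.eq_bot_iff]
        intro f hf
        have h3 : (f : F → ℂ) ∈ W.toSubmodule.map (Vp F).subtype := ⟨f, hf, rfl⟩
        rw [h, Submodule.mem_bot] at h3
        exact Subtype.ext h3
      · intro t f hf
        have h3 := hinvt (tM t) f hf
        rwa [rho, (rel h2 hψ).hom_tM] at h3
      · intro a ha f hf
        have h3 := hinvt (nM a ha) f hf
        rwa [rho, (rel h2 hψ).hom_nM] at h3
      · intro f hf
        have h3 := hinvt (mM (-1) (rel h2 hψ).c_ne) f hf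
        rwa [rho, (rel h2 hψ).hom_mM] at h3
    rw [Submodule.eq_top_iff']
    intro f
    have h3 : (f : F → ℂ) ∈ W.toSubmodule.map (Vp F).subtype := h1.symm ▸ f.2
    obtain ⟨f', hf', he⟩ := h3
    have h4 : f' = f := Subtype.ext he
    rwa [← h4]

/-- the values -/
theorem char_val (x : Xt F) : R.character ⟨pt F x, x, rfl⟩ =
    (LinearMap.trace ℂ (F → ℂ) ((rt h2 hψ hinv x : Cen F) : (F → ℂ) ≃ₗ[ℂ] (F → ℂ)) +
      LinearMap.trace ℂ (F → ℂ) (((rt h2 hψ hinv x : Cen F) : (F → ℂ) ≃ₗ[ℂ] (F → ℂ)) * Ta (-1) : (F → ℂ) ≃ₗ[ℂ] (F → ℂ))) / 2 := by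
  rw [Representation.character, hR, trace_resV]

/-- the values are fixed by the Galois maps fixing the values of `ψ` -/
theorem char_rat {τ : ℂ ≃+* ℂ} (hτ : ∀ x, τ (ψ x) = ψ x) (y : (pt F).range) : τ (R.character y) = R.character y := by
  obtain ⟨_, x, rfl⟩ := y
  have h1 : Rat τ ((rt h2 hψ hinv x : Cen F) : (F → ℂ) ≃ₗ[ℂ] (F → ℂ)) := by
    rw [rt_apply]
    exact (rat_rho h2 hψ hτ _).mul (rat_Fe τ _)
  simp only [char_val h2 hψ hinv hR, map_div₀, map_add, h1.trace, (h1.mul (rat_Ta τ (-1))).trace, map_ofNat]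

/-- the values on the unipotent elements -/
theorem theta_te (t : F) : R.character (io F (pr (tM t))) =
    ((if t = 0 then (Fintype.card F : ℂ) else eta t * gs ψ) + eta (-1 : F)) / 2 := by
  rw [io_pr, char_val h2 hψ hinv hR]
  have h1 : ((rt h2 hψ hinv (SemidirectProduct.inl (tM t)) : Cen F) : (F → ℂ) ≃ₗ[ℂ] (F → ℂ)) = Te ψ t := by
    rw [rt_apply]
    have hF : Fe (1 : F ≃+* F) = 1 := FeHom.map_one
    show (rho h2 hψ (tM t) * Fe 1 : (F → ℂ) ≃ₗ[ℂ] (F → ℂ)) = _
    rw [hF, mul_one, rho, (rel h2 hψ).hom_tM]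
  rw [h1, trace_Te h2 hψ, trace_Te_neg h2]

/-- the degree -/
theorem theta_one : R.character 1 = ((Fintype.card F : ℂ) + eta (-1 : F)) / 2 := by
  have h := theta_te h2 hψ hinv hR 0
  rw [if_pos rfl] at h
  rw [← h]
  congr 1
  have e : (tM (0 : F)) = 1 := by
    apply ext' <;> rfl
  simp only [e, map_one, map_one]

end Cfsg.Agent.H587.CY
end

-- part: H587/CY/Wit
section
/-!
# S4829: the Weil character of `Aut(PSL₂(q))`, `q` odd (helper587)

* `exists_wit` : a character of `Aut(PSL₂(F))` of degree `q ± 1`, fixed by the Galois maps fixing the `p`-th roots of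
  unity, which restricts to `PSL₂(F)` as the sum of two different nontrivial irreducible characters.
-/

set_option autoImplicit false
set_option linter.unusedSectionVars false

namespace Cfsg.Agent.H587.CY

open Matrix Cfsg.Agent.ONan.SL2Hom Cfsg
open Cfsg.Agent.ClassicalGeometry.AutPSL.Root
open Cfsg.Agent.ClassicalGeometry.AutPSL.Auto
open Cfsg.Agent.ClassicalGeometry.AutPSL.Main
open Cfsg.Agent.H199.PslAut
open Cfsg.Agent.Characters

universe u

section

variable {F : Type u} [Field F]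

/-- an invertible matrix whose determinant is a square acts as an inner automorphism (helper432's text) -/
theorem psi_conj_of_sq {g : GL (Fin 2) F} {c : Fˣ} (h : Matrix.GeneralLinearGroup.det g = c ^ 2) :
    ∃ s : SpecialLinearGroup (Fin 2) F, Psi 2 F g = MulAut.conj (pr s) := by
  have hd : ((g : Matrix (Fin 2) (Fin 2) F)).det = (c : F) ^ 2 := by
    have := congrArg Units.val h
    simpa using this
  have hc : (c : F) ≠ 0 := c.ne_zero
  let s : SpecialLinearGroup (Fin 2) F := ⟨((c : F)⁻¹) • (g : Matrix (Fin 2) (Fin 2) F), by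
    rw [Matrix.det_smul, hd, Fintype.card_fin, ← mul_pow, inv_mul_cancel₀ hc, one_pow]⟩
  refine ⟨s, ?_⟩
  have hg : g = scal 2 F c * (s : GL (Fin 2) F) := by
    apply Units.ext
    rw [Units.val_mul, coe_scal]
    change (g : Matrix (Fin 2) (Fin 2) F) = (scalar (Fin 2) (c : F)) * (((c : F)⁻¹) • (g : Matrix (Fin 2) (Fin 2) F))
    rw [Matrix.mul_smul, ← Matrix.smul_mul]
    have : ((c : F)⁻¹) • (scalar (Fin 2) (c : F)) = (1 : Matrix (Fin 2) (Fin 2) F) := by
      rw [Matrix.scalar_apply, Matrix.smul_eq_diagonal_mul, Matrix.diagonal_mul_diagonal]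
      rw [← Matrix.diagonal_one]
      congr 1
      funext i
      exact inv_mul_cancel₀ hc
    rw [this, one_mul]
  rw [hg, map_mul, Psi_scal, one_mul, Psi_coe]

/-- the product of two nonsquares is a square -/
theorem isSquare_mul [Fintype F] (h2 : ringChar F ≠ 2) {a b : Fˣ} (ha : ¬ IsSquare a) (hb : ¬ IsSquare b) :
    IsSquare (a * b) := by
  rw [FiniteField.unit_isSquare_iff h2] at ha hb ⊢
  have key : ∀ x : Fˣ, ¬ x ^ (Fintype.card F / 2) = 1 → x ^ (Fintype.card F / 2) = -1 := by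
    intro x hx
    rcases FiniteField.pow_dichotomy h2 (a := (x : F)) x.ne_zero with h | h
    · exact absurd (Units.ext (by rw [Units.val_pow_eq_pow_val, h, Units.val_one])) hx
    · apply Units.ext
      rw [Units.val_pow_eq_pow_val, h, Units.val_neg, Units.val_one]
  rw [mul_pow, key a ha, key b hb]
  simp

/-- the diagonal matrix -/
noncomputable def dM (v : Fˣ) : GL (Fin 2) F :=
  Matrix.GeneralLinearGroup.mkOfDetNeZero !![(v : F), 0; 0, 1] (by
    rw [Matrix.det_fin_two_of]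
    simp)

theorem det_dM (v : Fˣ) : Matrix.GeneralLinearGroup.det (dM v) = v := by
  apply Units.ext
  show (!![(v : F), 0; 0, 1] : Matrix (Fin 2) (Fin 2) F).det = v
  rw [Matrix.det_fin_two_of]
  ring

/-- the diagonal automorphism on the unipotent elements -/
theorem cj_dM (v : Fˣ) (t : F) : cj (dM v) (tM t) = tM (v * t) := by
  have h : dM v * (Matrix.SpecialLinearGroup.toGL (tM t)) = (Matrix.SpecialLinearGroup.toGL (tM (v * t))) * dM v := by
    apply Units.ext
    show (!![(v : F), 0; 0, 1] : Matrix (Fin 2) (Fin 2) F) * !![1, t; 0, 1] = !![1, v * t; 0, 1] * !![(v : F), 0; 0, 1]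
    rw [Matrix.mul_fin_two, Matrix.mul_fin_two]
    simp
  have h1 : dM v * (Matrix.SpecialLinearGroup.toGL (tM t)) * (dM v)⁻¹ = Matrix.SpecialLinearGroup.toGL (tM (v * t)) := by
    rw [h, mul_inv_cancel_right]
  apply Subtype.ext
  rw [coe_cj]
  exact congrArg Units.val h1

end

variable {F : Type u} [Field F] [Fintype F] [DecidableEq F]

theorem mem_range_of_sq {g : GL (Fin 2) F} (h : IsSquare (Matrix.GeneralLinearGroup.det g)) (σ : F ≃+* F) :
    Psi 2 F g * phi 2 F σ ∈ (pt F).range := by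
  obtain ⟨c, hc⟩ := h
  obtain ⟨s, hs⟩ := psi_conj_of_sq (g := g) (c := c) (by rw [hc, pow_two])
  refine ⟨⟨s, σ⟩, ?_⟩
  rw [pt_apply, hs]

theorem not_mem_range {v : Fˣ} (hv : ¬ IsSquare v) : Psi 2 F (dM v) ∉ (pt F).range := by
  rintro ⟨x, hx⟩
  rw [pt_apply, ← Psi_coe] at hx
  have h1 : Psi 2 F ((dM v)⁻¹ * (x.left : GL (Fin 2) F)) * phi 2 F x.right = phi 2 F 1 := by
    simp only [map_mul, mul_assoc, hx, map_inv, inv_mul_cancel, map_one]
  obtain ⟨⟨w, hw⟩, -⟩ := Psi_phi_eq (n := 2) le_rfl h1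
  apply hv
  have h3 := congrArg Matrix.GeneralLinearGroup.det hw
  rw [map_mul, map_inv, det_dM] at h3
  have h4 : Matrix.GeneralLinearGroup.det (x.left : GL (Fin 2) F) = 1 := by
    apply Units.ext
    exact x.left.2
  have h5 : Matrix.GeneralLinearGroup.det (scal 2 F w) = w ^ 2 := by
    apply Units.ext
    show ((scal 2 F w : GL (Fin 2) F) : Matrix (Fin 2) (Fin 2) F).det = _
    rw [coe_scal, Matrix.scalar_apply, Matrix.det_diagonal]
    simp
  rw [h4, h5, mul_one] at h3
  refine ⟨w⁻¹, ?_⟩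
  rw [← mul_inv, ← pow_two, ← h3, inv_inv]

theorem cover (h2 : ringChar F ≠ 2) {v : Fˣ} (hv : ¬ IsSquare v) (x : MulAut (PS F)) (hx : x ∉ (pt F).range) :
    (Psi 2 F (dM v))⁻¹ * x ∈ (pt F).range := by
  rcases exists_form (n := 2) le_rfl x with ⟨g, σ, rfl⟩ | ⟨h, -⟩
  · rw [← mul_assoc, ← map_inv, ← map_mul]
    apply mem_range_of_sq
    rw [map_mul, map_inv, det_dM]
    have hg : ¬ IsSquare (Matrix.GeneralLinearGroup.det g) := fun h => hx (mem_range_of_sq h σ)
    refine isSquare_mul h2 ?_ hg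
    intro h
    exact hv (isSquare_inv.1 h)
  · omega

/-- **the Weil character of `Aut(PSL₂(F))`** -/
theorem exists_wit (p : ℕ) [Fact p.Prime] [CharP F p] (hp : p ≠ 2) : ∃ Ψ : MulAut (PS F) → ℂ,
    IsCharacter (MulAut (PS F)) Ψ ∧ (∀ τ : ℂ ≃+* ℂ, (∀ z : ℂ, z ^ p = 1 → τ z = z) → ∀ a, τ (Ψ a) = Ψ a) ∧
    (∃ n : ℕ, Ψ 1 = n ∧ ¬ p ∣ n) ∧ ∃ θ₁ θ₂ : PS F → ℂ, IsIrrCharacter (PS F) θ₁ ∧ IsIrrCharacter (PS F) θ₂ ∧ θ₁ ≠ θ₂ ∧
      (∀ s, Ψ (MulAut.conj s) = θ₁ s + θ₂ s) ∧ θ₁ ≠ (fun _ => 1) ∧ θ₂ ≠ (fun _ => 1) ∧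
      (∀ τ : ℂ ≃+* ℂ, (∀ z : ℂ, z ^ p = 1 → τ z = z) → ∀ s, τ (θ₁ s) = θ₁ s) ∧
      (∀ τ : ℂ ≃+* ℂ, (∀ z : ℂ, z ^ p = 1 → τ z = z) → ∀ s, τ (θ₂ s) = θ₂ s) := by
  classical
  have hpp : p.Prime := Fact.out
  have hrc : ringChar F = p := ringChar.eq F p
  have h2 : ringChar F ≠ 2 := by rwa [hrc]
  obtain ⟨ψ, hψ, hinv, hψp⟩ := exists_psi (F := F) p
  obtain ⟨R, hR⟩ := exists_desc h2 hψ hinv
  obtain ⟨v0, hv0⟩ := FiniteField.exists_nonsquare h2
  have hv00 : v0 ≠ 0 := by
    rintro rfl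
    exact hv0 IsSquare.zero
  let v : Fˣ := Units.mk0 v0 hv00
  have hv : ¬ IsSquare v := by
    rintro ⟨w, hw⟩
    exact hv0 ⟨w, congrArg Units.val hw⟩
  let d : MulAut (PS F) := Psi 2 F (dM v)
  have hd : d ∉ (pt F).range := not_mem_range hv
  have hcov : ∀ x, x ∉ (pt F).range → d⁻¹ * x ∈ (pt F).range := cover h2 hv
  have : Fintype (MulAut (PS F)) := Fintype.ofFinite _
  have hRc : IsCharacter (pt F).range R.character := Core.isCharacter_of_rep R
  have hcl := Core.isCharacter_isClassFunction hRc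
  have hfix : ∀ τ : ℂ ≃+* ℂ, (∀ z : ℂ, z ^ p = 1 → τ z = z) → ∀ y, τ (R.character y) = R.character y :=
    fun τ hτ y => char_rat h2 hψ hinv hR (fun x => hτ _ (hψp x)) y
  have hirr := irr_theta h2 hψ hinv hR
  have hconj : ∀ s : PS F, d⁻¹ * MulAut.conj s * d = MulAut.conj (d⁻¹ s) := by
    intro s
    refine MulEquiv.ext fun x => ?_
    simp only [MulAut.mul_apply, MulAut.mul_apply, MulAut.conj_apply, MulAut.conj_apply, map_mul, map_mul, map_inv,
      MulAut.inv_apply_self]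
  have hsum : ∀ s : PS F, indFun (pt F).range R.character (MulAut.conj s) =
      R.character (io F s) + R.character (io F (d⁻¹ s)) := by
    intro s
    have hy' : d⁻¹ * MulAut.conj s * d ∈ (pt F).range := by
      rw [hconj]
      exact conj_mem _
    rw [ind_two (pt F).range hcl hd hcov (conj_mem s) hy']
    congr 2
    exact Subtype.ext (hconj s)
  have hg := gs_ne h2 hψ
  -- the values on the unipotent elements
  have hdt : ∀ t : F, d⁻¹ (pr (tM (v0 * t))) = pr (tM t) := by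
    intro t
    have e : pr (tM (v0 * t)) = d (pr (tM t)) := by
      show _ = Psi 2 F (dM v) (pr (tM t))
      rw [Psi_pr, cj_dM]
      rfl
    rw [e, MulAut.inv_apply_self]
  have hv1 : eta v0 = -1 := by
    unfold eta
    rw [quadraticChar_neg_one_iff_not_isSquare.2 hv0]
    norm_num
  have hne : ∀ t t' : F, t ≠ 0 → t' ≠ 0 → eta t = -eta t' → R.character (io F (pr (tM t))) ≠ R.character (io F (pr (tM t'))) := by
    intro t t' ht ht' he h
    rw [theta_te h2 hψ hinv hR, theta_te h2 hψ hinv hR, if_neg ht, if_neg ht', he] at h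
    have h3 : eta t' * gs ψ = 0 := by linear_combination (-1 : ℂ) * h
    exact mul_ne_zero (eta_ne ht') hg h3
  refine ⟨indFun (pt F).range R.character, Brauer.isCharacter_indFun _ hRc, ?_, ?_, fun s => R.character (io F s),
    fun s => R.character (io F (d⁻¹ s)), hirr, ?_, ?_, hsum, ?_, ?_, fun τ hτ s => hfix τ hτ _, fun τ hτ s => hfix τ hτ _⟩
  · intro τ hτ a
    simp only [Core.indFun_apply, map_mul, map_inv₀, map_natCast, map_sum]
    congr 1
    refine Finset.sum_congr rfl fun x _ => ?_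
    by_cases hm : x⁻¹ * a * x ∈ (pt F).range
    · rw [Core.extendByZero_of_mem _ _ hm, hfix τ hτ]
    · rw [Core.extendByZero_of_notMem _ _ hm, map_zero]
  · have h1 := hsum 1
    simp only [map_one MulAut.conj, map_one (d⁻¹), map_one (io F), theta_one h2 hψ hinv hR] at h1
    have hpq : p ∣ Fintype.card F := by
      have := (CharP.cast_eq_zero_iff F p (Fintype.card F)).1 (FiniteField.cast_card_eq_zero F)
      exact this
    have hq1 : 1 ≤ Fintype.card F := Fintype.card_pos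
    rcases eta_cases (neg_one_ne (F := F)) with he | he
    · refine ⟨Fintype.card F + 1, ?_, ?_⟩
      · rw [h1, he]
        push_cast
        ring
      · intro h
        exact hpp.one_lt.ne' (Nat.dvd_one.1 ((Nat.dvd_add_right hpq).1 h))
    · refine ⟨Fintype.card F - 1, ?_, ?_⟩
      · rw [h1, he, Nat.cast_sub hq1]
        push_cast
        ring
      · intro h
        have h3 := (Nat.dvd_sub hpq h)
        rw [Nat.sub_sub_self hq1] at h3
        exact hpp.one_lt.ne' (Nat.dvd_one.1 h3)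
  · have h1 := Core.isIrr_comp (f := (d⁻¹ : MulAut (PS F)).toMonoidHom) (d⁻¹ : MulAut (PS F)).surjective hirr
    exact h1
  · intro h
    have h1 := congrFun h (pr (tM (v0 * 1)))
    simp_rw [hdt, mul_one] at h1
    exact hne v0 1 hv00 one_ne_zero (by rw [hv1, eta_one]) h1
  · intro h
    have h1 := congrFun h (pr (tM v0))
    have h3 := congrFun h (pr (tM 1))
    exact hne v0 1 hv00 one_ne_zero (by rw [hv1, eta_one]) (h1.trans h3.symm)
  · intro h
    have h1 := congrFun h (pr (tM (v0 * v0)))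
    have h3 := congrFun h (pr (tM (v0 * 1)))
    rw [hdt] at h1 h3
    exact hne v0 1 hv00 one_ne_zero (by rw [hv1, eta_one]) (h1.trans h3.symm)

end Cfsg.Agent.H587.CY
end

private theorem dce_f1ce4087b53b : _root_.True := by
  try have : _root_.True := by simp only [_root_.Cfsg.Agent.H587.CY.Me.congr_simp]
  try have : _root_.True := by simp only [_root_.Cfsg.Agent.H587.CY.gs.congr_simp]
  try have : _root_.True := by simp only [_root_.Cfsg.Agent.H587.CY.Cen.eq_1]
  try have : _root_.True := by simp only [_root_.Cfsg.Agent.H587.CY.rho.eq_1]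
  try have : _root_.True := by simp only [_root_.Cfsg.Agent.H587.CY.eta.congr_simp]
  exact _root_.True.intro
end
end
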